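import Groth.Agent.Sga3.BddGen.WordPts
import Groth.Prelude.Def_Red
import Groth.Prelude.Def_AlgGrp
import Groth.Prelude.Def_ActBC
import Mathlib.CategoryTheory.Monoidal.Cartesian.Grp

/-!
Commutator morphisms, and points of a base change as points over the old base.
-/

set_option autoImplicit false
set_option backward.isDefEq.respectTransparency false

universe u

open CategoryTheory CategoryTheory.Limits MonoidalCategory CartesianMonoidalCategory MonObj GrpObj AlgebraicGeometry

noncomputable section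

namespace Groth.Sga3.CommSpread

open Groth.Sga3.BddGen (wordProd)

variable {S S' : Scheme.{u}}

/-- The commutator morphism. -/
abbrev comm {G A B : Over S} [GrpObj G] (a : A ⟶ G) (b : B ⟶ G) : A ⊗ B ⟶ G :=
  ((fst A B) ≫ a) * ((snd A B) ≫ b) * ((fst A B) ≫ a)⁻¹ * ((snd A B) ≫ b)⁻¹

theorem comp_comm {G A B T : Over S} [GrpObj G] (a : A ⟶ G) (b : B ⟶ G) (z : T ⟶ A ⊗ B) :
    z ≫ comm a b = ((z ≫ fst A B) ≫ a) * ((z ≫ snd A B) ≫ b) * ((z ≫ fst A B) ≫ a)⁻¹ * ((z ≫ snd A B) ≫ b)⁻¹ := by
  simp [comm, MonObj.comp_mul, GrpObj.comp_inv]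

theorem lift_comm {G A B T : Over S} [GrpObj G] (a : A ⟶ G) (b : B ⟶ G) (x : T ⟶ A) (y : T ⟶ B) :
    lift x y ≫ comm a b = (x ≫ a) * (y ≫ b) * (x ≫ a)⁻¹ * (y ≫ b)⁻¹ := by
  rw [comp_comm, lift_fst, lift_snd]

variable (t : S' ⟶ S)

/-- An object over `S'` as an object over `S`. -/
abbrev push (W : Over S') : Over S := (Over.map t).obj W

/-- Points of the base change. -/
def adj {W : Over S'} {X : Over S} : (push t W ⟶ X) ≃ (W ⟶ Red.bc t X) :=
  (Over.mapPullbackAdj t).homEquiv W X

/-- Points of the base change of a group. -/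
def adjGrp (W : Over S') (G : Over S) [GrpObj G] : (push t W ⟶ G) ≃* (W ⟶ Red.bc t G) where
  toEquiv := (Over.mapPullbackAdj t).homEquiv W G
  map_mul' x y := AlgGrp.Action.homEquiv_mul (f := t) x y

theorem adjGrp_apply {W : Over S'} {G : Over S} [GrpObj G] (x : push t W ⟶ G) : adjGrp t W G x = adj t x := rfl

theorem adj_comp {W : Over S'} {X Y : Over S} (x : push t W ⟶ X) (f : X ⟶ Y) :
    adj t (x ≫ f) = adj t x ≫ (Over.pullback t).map f := Adjunction.homEquiv_naturality_right _ _ _

theorem adj_left {W : Over S'} {X : Over S} (x : push t W ⟶ X) :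
    (adj t x).left ≫ pullback.fst X.hom t = x.left := by
  show ((Over.mapPullbackAdj t).homEquiv W X x).left ≫ _ = _
  rw [Adjunction.homEquiv_unit, Over.comp_left, Category.assoc]
  erw [pullback.lift_fst]
  rw [← Category.assoc]
  erw [pullback.lift_fst]
  exact Category.id_comp _

theorem adj_symm_left {W : Over S'} {X : Over S} (y : W ⟶ Red.bc t X) :
    ((adj t).symm y).left = y.left ≫ pullback.fst X.hom t := by
  conv_rhs => rw [← (adj t).apply_symm_apply y]
  exact (adj_left t _).symm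

theorem adjGrp_comm {W : Over S'} {G A B : Over S} [GrpObj G] (a : A ⟶ G) (b : B ⟶ G) (z : push t W ⟶ A ⊗ B) :
    adjGrp t W G (z ≫ comm a b) =
      lift (adj t (z ≫ fst A B)) (adj t (z ≫ snd A B)) ≫
        comm ((Over.pullback t).map a) ((Over.pullback t).map b) := by
  rw [comp_comm, lift_comm]
  simp only [map_mul, map_inv, adjGrp_apply, adj_comp]

theorem adjGrp_symm_comm {W : Over S'} {G A B : Over S} [GrpObj G] (a : A ⟶ G) (b : B ⟶ G)
    (z : W ⟶ Red.bc t A ⊗ Red.bc t B) :
    (adjGrp t W G).symm (z ≫ comm ((Over.pullback t).map a) ((Over.pullback t).map b)) =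
      lift ((adj t).symm (z ≫ fst _ _)) ((adj t).symm (z ≫ snd _ _)) ≫ comm a b := by
  rw [MulEquiv.symm_apply_eq, adjGrp_comm, lift_fst, lift_snd, Equiv.apply_symm_apply, Equiv.apply_symm_apply]
  congr 1
  apply CartesianMonoidalCategory.hom_ext <;> simp

theorem isNormalHom_bc {N G : Over S} [GrpObj N] [GrpObj G] (i : N ⟶ G) (h : AlgGrp.IsNormalHom i) :
    AlgGrp.IsNormalHom ((Over.pullback t).map i) := by
  intro T g n
  obtain ⟨n', hn'⟩ := h (push t T) ((adjGrp t T G).symm g) ((adj t).symm n)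
  refine ⟨adj t n', ?_⟩
  rw [← adj_comp, ← hn', ← adjGrp_apply, map_mul, map_mul, map_inv, MulEquiv.apply_symm_apply, adjGrp_apply,
    adj_comp, Equiv.apply_symm_apply]

theorem adjGrp_wordProd {W : Over S'} {G X : Over S} [GrpObj G] (f : X ⟶ G) {n : ℕ}
    (x : Fin n → (push t W ⟶ X)) (ε : Fin n → Bool) :
    adjGrp t W G (wordProd f x ε) = (List.ofFn fun j : Fin n =>
      if ε j then adjGrp t W G (x j ≫ f) else (adjGrp t W G (x j ≫ f))⁻¹).prod := by
  rw [wordProd, map_list_prod, List.map_ofFn]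
  congr 1
  refine congrArg List.ofFn (funext fun j => ?_)
  simp only [Function.comp_apply]
  split <;> simp

end Groth.Sga3.CommSpread
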