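import Groth.Agent.Sga3.CommSpread.Main

/-!
Minimality on a fibre at a point of the base.
-/

set_option autoImplicit false
set_option backward.isDefEq.respectTransparency false
set_option linter.style.haveILetI false

universe u

open CategoryTheory CategoryTheory.Limits MonoidalCategory CartesianMonoidalCategory MonObj GrpObj
  AlgebraicGeometry TopologicalSpace Topology

noncomputable section

namespace Groth.Sga3.CommSpread

open Groth.Sga3.BddGen (wordProd wordPts)

variable {S : Scheme.{u}} {G : Over S} [GrpObj G]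

/-- Set-theoretic minimality at a point of the base. -/
theorem range_subset_point {D₀ A B : Over S} (d₀ : D₀ ⟶ G) (a : A ⟶ G) (b : B ⟶ G) {N : ℕ}
    {L : Scheme.{u}} (t : L ⟶ S)
    (hcov : ∀ p : D₀.left, D₀.hom.base p ∈ Set.range t.base → d₀.left.base p ∈ wordPts (comm a b) N)
    {Γ' : Over L} [GrpObj Γ'] (i' : Γ' ⟶ Red.bc t G) [IsMonHom i']
    (hc' : ∃ c', c' ≫ i' = comm ((Over.pullback t).map a) ((Over.pullback t).map b)) :
    Set.range ((Over.pullback t).map d₀).left.base ⊆ Set.range i'.left.base := by
  rintro _ ⟨p, rfl⟩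
  let d := ((Over.pullback t).map d₀).left
  let π : (Red.bc t G).left ⟶ G.left := pullback.fst G.hom t
  let πD : (Red.bc t D₀).left ⟶ D₀.left := pullback.fst D₀.hom t
  have hπ : d ≫ π = πD ≫ d₀.left := (Groth.GrpschAbsch.FibreFlat.isPullback_map t d₀).w.symm
  have hp : D₀.hom.base (πD.base p) ∈ Set.range t.base := by
    refine ⟨(pullback.snd D₀.hom t).base p, ?_⟩
    exact (Scheme.Hom.comp_apply _ _ _).symm.trans ((congrArg (fun m : (Red.bc t D₀).left ⟶ S => m.base p)
      (pullback.condition (f := D₀.hom) (g := t)).symm).trans (Scheme.Hom.comp_apply _ _ _))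
  obtain ⟨T, q, x, ε, hw⟩ := hcov _ hp
  have hq : (wordProd (comm a b) x ε).left.base q = π.base (d.base p) := by
    rw [hw, ← Scheme.Hom.comp_apply, ← Scheme.Hom.comp_apply]
    exact congrArg (fun m : (Red.bc t D₀).left ⟶ G.left => m.base p) hπ.symm
  obtain ⟨r, hr1, hr2⟩ := Scheme.Pullback.exists_preimage_pullback (f := (wordProd (comm a b) x ε).left) (g := π)
    q (d.base p) hq
  let P : Over L := Over.mk (pullback.snd (wordProd (comm a b) x ε).left π ≫ (Red.bc t G).hom)
  let yt : P ⟶ Red.bc t G := Over.homMk (pullback.snd (wordProd (comm a b) x ε).left π) rfl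
  let ρ : push t P ⟶ T := Over.homMk (pullback.fst (wordProd (comm a b) x ε).left π) (by
    show pullback.fst (wordProd (comm a b) x ε).left π ≫ T.hom =
      (pullback.snd (wordProd (comm a b) x ε).left π ≫ pullback.snd G.hom t) ≫ t
    rw [← Over.w (wordProd (comm a b) x ε), ← Category.assoc, pullback.condition, Category.assoc, Category.assoc,
      show π ≫ G.hom = pullback.snd G.hom t ≫ t from pullback.condition])
  have hE : adjGrp t P G (wordProd (comm a b) (fun j => ρ ≫ x j) ε) = yt := by
    rw [← MulEquiv.eq_symm_apply, ← Groth.Sga3.BddGen.comp_wordProd]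
    refine Over.OverMorphism.ext ?_
    show pullback.fst (wordProd (comm a b) x ε).left π ≫ (wordProd (comm a b) x ε).left = ((adj t).symm yt).left
    rw [pullback.condition, adj_symm_left]
    rfl
  obtain ⟨c', hc'⟩ := hc'
  let φ : (P ⟶ Γ') →* (P ⟶ Red.bc t G) :=
    MonoidHom.mk' (fun z => z ≫ i') fun u v => MonObj.mul_comp u v i'
  have hmem : yt ∈ φ.range := by
    rw [← hE, wordProd, map_list_prod, List.map_ofFn]
    refine list_prod_mem fun y hy => ?_
    obtain ⟨j, rfl⟩ := List.mem_ofFn.1 hy
    have hj : adjGrp t P G ((ρ ≫ x j) ≫ comm a b) ∈ φ.range := by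
      refine ⟨lift (adj t ((ρ ≫ x j) ≫ fst A B)) (adj t ((ρ ≫ x j) ≫ snd A B)) ≫ c', ?_⟩
      show (_ ≫ c') ≫ i' = _
      rw [Category.assoc, hc', adjGrp_comm]
    simp only [Function.comp_apply]
    split
    · exact hj
    · rw [map_inv]; exact inv_mem hj
  obtain ⟨z, hz⟩ := hmem
  refine ⟨z.left.base r, ?_⟩
  have hz' : z.left ≫ i'.left = pullback.snd (wordProd (comm a b) x ε).left π := congrArg CommaMorphism.left hz
  exact (Scheme.Hom.comp_apply _ _ _).symm.trans
    ((congrArg (fun m : P.left ⟶ (Red.bc t G).left => m.base r) hz').trans hr2)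

variable [IsIntegral S]

/-- The fibre at a point of an open over which the fibres are smooth. -/
theorem smooth_bc_point {X : Over S} {U : S.Opens} (hsm : SmoothOn X U) (s : U) :
    Smooth (Red.bc (S.fromSpecResidueField (s : S)) X).hom := by
  let t : Spec (S.residueField (s : S)) ⟶ U.toScheme :=
    IsOpenImmersion.lift U.ι (S.fromSpecResidueField (s : S)) (by
      rw [Scheme.range_fromSpecResidueField, Scheme.Opens.range_ι]
      exact Set.singleton_subset_iff.2 s.2)
  have ht : t ≫ U.ι = S.fromSpecResidueField (s : S) := IsOpenImmersion.lift_fac _ _ _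
  have R := IsPullback.of_hasPullback X.hom U.ι
  let p : (Red.bc (S.fromSpecResidueField (s : S)) X).left ⟶ (Red.bc U.ι X).left :=
    R.lift (pullback.fst X.hom _) (pullback.snd X.hom (S.fromSpecResidueField (s : S)) ≫ t)
      (by rw [Category.assoc, ht, ← pullback.condition])
  have sq : IsPullback p (Red.bc (S.fromSpecResidueField (s : S)) X).hom (Red.bc U.ι X).hom t := by
    refine IsPullback.of_right ?_ (R.lift_snd _ _ _) R
    rw [R.lift_fst, ht]
    exact IsPullback.of_hasPullback _ _
  exact of_fibre @Smooth _ sq rfl (hsm _)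

end Groth.Sga3.CommSpread
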