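import Groth.Agent.Sga3.CommSpread.Loci
import Groth.Agent.Sga3.BddGen.Field
import Groth.Agent.Sga3.Solvable.Locus

/-!
Properties holding over all small enough nonempty open subsets of an integral base.
-/

set_option autoImplicit false
set_option backward.isDefEq.respectTransparency false
set_option linter.style.haveILetI false

universe u

open CategoryTheory CategoryTheory.Limits MonoidalCategory CartesianMonoidalCategory MonObj GrpObj
  AlgebraicGeometry TopologicalSpace Topology

noncomputable section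

namespace Groth.Sga3.CommSpread

open Groth.Sga3.BddGen

variable {S : Scheme.{u}} [IsIntegral S]

/-- The point of the generic fibre. -/
abbrev gen (S : Scheme.{u}) [IsIntegral S] : Spec (S.residueField (genericPoint S)) ⟶ S :=
  S.fromSpecResidueField (genericPoint S)

theorem generic_mem {O : S.Opens} (h : (O : Set S).Nonempty) : genericPoint S ∈ O :=
  ((genericPoint_spec S).mem_open_set_iff O.2).2 (by rwa [Set.univ_inter])

/-- Holding for all nonempty opens inside some nonempty open. -/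
def Gnr (P : S.Opens → Prop) : Prop :=
  ∃ O : S.Opens, (O : Set S).Nonempty ∧ ∀ U ≤ O, (U : Set S).Nonempty → P U

theorem Gnr.and {P Q : S.Opens → Prop} (hP : Gnr P) (hQ : Gnr Q) : Gnr fun U => P U ∧ Q U := by
  obtain ⟨O, hO, h⟩ := hP
  obtain ⟨O', hO', h'⟩ := hQ
  exact ⟨O ⊓ O', ⟨_, generic_mem hO, generic_mem hO'⟩,
    fun U hU hne => ⟨h U (hU.trans inf_le_left) hne, h' U (hU.trans inf_le_right) hne⟩⟩

theorem Gnr.of_forall {P : S.Opens → Prop} (h : ∀ U, P U) : Gnr P :=
  ⟨⊤, ⟨genericPoint S, trivial⟩, fun U _ _ => h U⟩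

theorem Gnr.exists {P : S.Opens → Prop} (h : Gnr P) : ∃ U : S.Opens, (U : Set S).Nonempty ∧ P U := by
  obtain ⟨O, hO, h⟩ := h
  exact ⟨O, hO, h O le_rfl hO⟩

omit [IsIntegral S] in
/-- Base changes to smaller opens. -/
theorem isPullback_bc_le (X : Over S) {U O : S.Opens} (h : U ≤ O) :
    ∃ p : (Red.bc U.ι X).left ⟶ (Red.bc O.ι X).left,
      p ≫ pullback.fst X.hom O.ι = pullback.fst X.hom U.ι ∧
      IsPullback p (Red.bc U.ι X).hom (Red.bc O.ι X).hom (S.homOfLE h) := by
  have R := IsPullback.of_hasPullback X.hom O.ι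
  refine ⟨R.lift (pullback.fst X.hom U.ι) (pullback.snd X.hom U.ι ≫ S.homOfLE h)
    (by rw [Category.assoc, Scheme.homOfLE_ι, ← pullback.condition]), R.lift_fst _ _ _, ?_⟩
  refine IsPullback.of_right ?_ (R.lift_snd _ _ _) R
  rw [R.lift_fst, Scheme.homOfLE_ι]
  exact IsPullback.of_hasPullback _ _

/-- Flat and of finite presentation near the generic point. -/
theorem gnr_flat (X : Over S) [LocallyOfFiniteType X.hom] [QuasiCompact X.hom] :
    Gnr fun U => Flat (Red.bc U.ι X).hom ∧ LocallyOfFinitePresentation (Red.bc U.ι X).hom := by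
  obtain ⟨O, hO, hflat, hlfp⟩ := Groth.FlatMorOne.exists_dense_flat_finitePresentation X.hom
  refine ⟨O, hO.nonempty, fun U hU _ => ?_⟩
  obtain ⟨p, -, sq⟩ := isPullback_restrict X.hom O (S.homOfLE hU)
  have h1 : Flat (pullback.snd X.hom (S.homOfLE hU ≫ O.ι)) := MorphismProperty.of_isPullback sq hflat
  have h2 : LocallyOfFinitePresentation (pullback.snd X.hom (S.homOfLE hU ≫ O.ι)) := MorphismProperty.of_isPullback sq hlfp
  rw [Scheme.homOfLE_ι] at h1 h2
  exact ⟨h1, h2⟩

omit [IsIntegral S] in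
theorem exists_affine_le {O : S.Opens} {x : S} (hx : x ∈ O) :
    ∃ V : S.Opens, IsAffineOpen V ∧ x ∈ V ∧ V ≤ O := by
  obtain ⟨V, hV, hxV, hVO⟩ := exists_isAffineOpen_mem_and_subset (x := x) (U := O) hx
  exact ⟨V, hV, hxV, hVO⟩

/-- A constructible set of an affine open missing the generic point. -/
theorem gnr_avoid {V : S.Opens} {C : Set V.toScheme} (hC : IsConstructible C)
    (hη : ∀ x : V.toScheme, V.ι.base x = genericPoint S → x ∉ C) (hne : (V : Set S).Nonempty) :
    ∃ O : S.Opens, (O : Set S).Nonempty ∧ O ≤ V ∧ ∀ x : V.toScheme, V.ι.base x ∈ O → x ∉ C := by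
  haveI : Nonempty V.toScheme := hne.to_subtype
  haveI : IsIntegral V.toScheme := inferInstance
  have hgen : V.ι.base (genericPoint V.toScheme) = genericPoint S :=
    genericPoint_eq_of_isOpenImmersion V.ι
  obtain ⟨W, hW, hηW, hdisj⟩ := exists_open_avoid (genericPoint_spec V.toScheme) hC (hη _ hgen)
  refine ⟨V.ι ''ᵁ ⟨W, hW⟩, ⟨_, genericPoint V.toScheme, hηW, rfl⟩, V.ι_image_le _, fun x hx => ?_⟩
  obtain ⟨y, hy, hyx⟩ := hx
  obtain rfl := V.ι.isOpenEmbedding.injective hyx
  exact Set.disjoint_left.1 hdisj hy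

/-- Fibres over the points of `U` are smooth. -/
def SmoothOn (X : Over S) (U : S.Opens) : Prop :=
  ∀ u : U.toScheme, Smooth ((Red.bc U.ι X).hom.fiberToSpecResidueField u)

theorem gnr_smooth (X : Over S) [LocallyOfFiniteType X.hom] [QuasiCompact X.hom] [QuasiSeparated X.hom]
    (h : Smooth (Red.bc (gen S) X).hom) : Gnr (SmoothOn X) := by
  obtain ⟨O₁, hO₁, hflat⟩ := gnr_flat X
  obtain ⟨V, hV, hηV, hVO⟩ := exists_affine_le (generic_mem hO₁)
  have hne : (V : Set S).Nonempty := ⟨_, hηV⟩
  obtain ⟨-, hlfp⟩ := hflat V hVO hne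
  haveI : IsAffine V.toScheme := hV
  let f := (Red.bc V.ι X).hom
  haveI : QuasiCompact f := inferInstanceAs (QuasiCompact (pullback.snd X.hom V.ι))
  haveI : QuasiSeparated f := inferInstanceAs (QuasiSeparated (pullback.snd X.hom V.ι))
  haveI : CompactSpace ↥(Red.bc V.ι X).left := QuasiCompact.compactSpace_of_compactSpace f
  haveI : QuasiSeparatedSpace ↥(Red.bc V.ι X).left := quasiSeparatedSpace_of_quasiSeparated f
  let E : Set (Red.bc V.ι X).left := {x | ¬ Groth.CMMor.IsSmoothFibreAt f x}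
  have hE : IsConstructible E :=
    (Groth.Sga3.Solvable.isLocallyConstructible_compl (Groth.CMMor.isLocallyConstructible_smoothFibre f)).isConstructible
  obtain ⟨O, hO, hOV, hgood⟩ := gnr_avoid (V := V) (C := f.base '' E) (f.isConstructible_image hE) (fun v hv => by
    rintro ⟨x, hx, rfl⟩
    apply hx
    have hsm : Smooth (f.fiberToSpecResidueField (f.base x)) := by
      have sq := (IsPullback.of_hasPullback f (V.toScheme.fromSpecResidueField (f.base x))).paste_horiz
        (IsPullback.of_hasPullback X.hom V.ι)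
      refine of_fibre @Smooth X.hom sq ?_ h
      exact (Scheme.Hom.comp_apply _ _ _).trans
        ((congrArg V.ι.base (Scheme.fromSpecResidueField_apply _ _)).trans hv)
    show _ ∈ (f.fiberToSpecResidueField (f.base x)).smoothLocus
    rw [Scheme.Hom.smoothLocus_eq_top]
    trivial) hne
  refine ⟨O, hO, fun U hU hUne u => ?_⟩
  obtain ⟨p, -, sq⟩ := isPullback_bc_le X (hU.trans hOV)
  let u' := (S.homOfLE (hU.trans hOV)).base u
  have hu' : V.ι.base u' ∈ O := by
    rw [← Scheme.Hom.comp_apply, Scheme.homOfLE_ι]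
    exact hU u.2
  have hsm : Smooth (f.fiberToSpecResidueField u') := by
    rw [← Scheme.Hom.smoothLocus_eq_top_iff, eq_top_iff]
    intro z _
    refine (Groth.CMMor.isSmoothFibreAt_iff f u' z).1 ?_
    by_contra hz
    exact hgood u' hu' ⟨_, hz, (f.range_fiberι u').le ⟨z, rfl⟩⟩
  have sq' := (IsPullback.of_hasPullback (Red.bc U.ι X).hom (U.toScheme.fromSpecResidueField u)).paste_horiz sq
  refine of_fibre @Smooth f sq' ?_ hsm
  exact (Scheme.Hom.comp_apply _ _ _).trans
    (congrArg (S.homOfLE (hU.trans hOV)).base (Scheme.fromSpecResidueField_apply _ _))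

/-- Geometrically connected fibres. -/
theorem gnr_connected (X : Over S) [LocallyOfFiniteType X.hom] [QuasiCompact X.hom] [QuasiSeparated X.hom]
    (h : GeometricallyConnected (Red.bc (gen S) X).hom) :
    Gnr fun U => ∀ u : U.toScheme, ConnectedSpace ↥((Red.bc U.ι X).hom.fiber u) := by
  obtain ⟨O₁, hO₁, hflat⟩ := gnr_flat X
  obtain ⟨V, hV, hηV, hVO⟩ := exists_affine_le (generic_mem hO₁)
  have hne : (V : Set S).Nonempty := ⟨_, hηV⟩
  obtain ⟨-, hlfp⟩ := hflat V hVO hne
  haveI : IsAffine V.toScheme := hV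
  let f := (Red.bc V.ι X).hom
  haveI : QuasiCompact f := inferInstanceAs (QuasiCompact (pullback.snd X.hom V.ι))
  haveI : QuasiSeparated f := inferInstanceAs (QuasiSeparated (pullback.snd X.hom V.ι))
  have hC : IsConstructible {v : V.toScheme | MoreMor.nGeomConnComp f v = 1}ᶜ :=
    (Groth.GeomComp.isLocallyConstructible_level f 1).2.isConstructible.compl
  haveI : GeometricallyConnected (pullback.snd X.hom (gen S)) := h
  have hgen : MoreMor.nGeomConnComp X.hom (genericPoint S) = 1 :=
    nGeomConnComp_eq_one (IsPullback.of_hasPullback X.hom (gen S))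
  obtain ⟨O, hO, hOV, hgood⟩ := gnr_avoid hC (fun v hv hne => hne (by
    show MoreMor.nGeomConnComp f v = 1
    rw [Groth.Agent.S1335.result X.hom f (pullback.fst X.hom V.ι) V.ι (IsPullback.of_hasPullback X.hom V.ι) v, hv, hgen])) hne
  refine ⟨O, hO, fun U hU hUne u => connectedSpace_of_nGeomConnComp _ u ?_⟩
  obtain ⟨p, -, sq⟩ := isPullback_bc_le X (hU.trans hOV)
  rw [Groth.Agent.S1335.result f _ p _ sq u]
  by_contra hh
  refine hgood _ ?_ hh
  rw [← Scheme.Hom.comp_apply, Scheme.homOfLE_ι]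
  exact hU u.2

/-- Points lying under words. -/
theorem gnr_covered {G X D : Over S} [GrpObj G] [LocallyOfFinitePresentation G.hom] [QuasiCompact G.hom]
    [QuasiSeparated G.hom] [LocallyOfFiniteType X.hom] [QuasiCompact X.hom] [LocallyOfFiniteType D.hom]
    [QuasiCompact D.hom] [QuasiSeparated D.hom] (φ : D ⟶ G) (f : X ⟶ G) (N : ℕ)
    (h : ∀ p : D.left, D.hom.base p = genericPoint S → φ.left.base p ∈ wordPts f N) :
    Gnr fun U => ∀ p : D.left, D.hom.base p ∈ U → φ.left.base p ∈ wordPts f N := by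
  obtain ⟨Q, π, hQ, hQ', hu⟩ := exists_power_qc X N
  obtain ⟨O₁, hO₁, hflat⟩ := (gnr_flat D).and (gnr_flat Q)
  obtain ⟨V, hV, hηV, hVO⟩ := exists_affine_le (generic_mem hO₁)
  have hne : (V : Set S).Nonempty := ⟨_, hηV⟩
  obtain ⟨⟨-, hlD⟩, ⟨-, hlQ⟩⟩ := hflat V hVO hne
  haveI : IsAffine V.toScheme := hV
  let f1 := (Red.bc V.ι D).hom
  haveI : QuasiCompact f1 := inferInstanceAs (QuasiCompact (pullback.snd D.hom V.ι))
  haveI : QuasiSeparated f1 := inferInstanceAs (QuasiSeparated (pullback.snd D.hom V.ι))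
  haveI : CompactSpace ↥(Red.bc V.ι D).left := QuasiCompact.compactSpace_of_compactSpace f1
  haveI : QuasiSeparatedSpace ↥(Red.bc V.ι D).left := quasiSeparatedSpace_of_quasiSeparated f1
  let gV := (Red.bc V.ι G).hom
  haveI : LocallyOfFinitePresentation gV := inferInstanceAs (LocallyOfFinitePresentation (pullback.snd G.hom V.ι))
  haveI : QuasiCompact gV := inferInstanceAs (QuasiCompact (pullback.snd G.hom V.ι))
  haveI : QuasiSeparated gV := inferInstanceAs (QuasiSeparated (pullback.snd G.hom V.ι))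
  haveI : CompactSpace ↥(Red.bc V.ι G).left := QuasiCompact.compactSpace_of_compactSpace gV
  haveI : QuasiSeparatedSpace ↥(Red.bc V.ι G).left := quasiSeparatedSpace_of_quasiSeparated gV
  haveI : QuasiCompact (Red.bc V.ι Q).hom := inferInstanceAs (QuasiCompact (pullback.snd Q.hom V.ι))
  let φ' := ((Over.pullback V.ι).map φ).left
  let w : (Fin N → Bool) → ((Red.bc V.ι Q).left ⟶ (Red.bc V.ι G).left) := fun ε =>
    ((Over.pullback V.ι).map (wordProd f π ε)).left
  let W : Set (Red.bc V.ι G).left := ⋃ ε, Set.range (w ε).base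
  have hW : IsLocallyConstructible W := by
    refine IsLocallyConstructible.iUnion fun ε => ?_
    haveI : LocallyOfFinitePresentation (w ε) := by
      have : LocallyOfFinitePresentation (w ε ≫ gV) := by
        rw [Over.w ((Over.pullback V.ι).map (wordProd f π ε))]; exact hlQ
      exact Groth.SpectralTopology.lfp_of_comp (w ε) gV
    haveI : QuasiCompact (w ε) := by
      have : QuasiCompact (w ε ≫ gV) := by rw [Over.w ((Over.pullback V.ι).map (wordProd f π ε))]; infer_instance
      exact QuasiCompact.of_comp (w ε) gV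
    rw [← Set.image_univ]
    exact (w ε).isLocallyConstructible_image IsConstructible.univ.isLocallyConstructible
  have hE : IsConstructible (φ'.base ⁻¹' Wᶜ) :=
    φ'.isConstructible_preimage (Groth.Sga3.Solvable.isLocallyConstructible_compl hW).isConstructible
  have key : ∀ d1 : (Red.bc V.ι D).left, φ'.base d1 ∈ W ↔
      φ.left.base ((pullback.fst D.hom V.ι).base d1) ∈ wordPts f N := by
    intro d1
    have e : (pullback.fst G.hom V.ι).base (φ'.base d1) = φ.left.base ((pullback.fst D.hom V.ι).base d1) := by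
      exact (Scheme.Hom.comp_apply _ _ _).symm.trans ((congrArg (fun m : (Red.bc V.ι D).left ⟶ G.left => m.base d1)
        (Groth.GrpschAbsch.FibreFlat.isPullback_map V.ι φ).w.symm).trans (Scheme.Hom.comp_apply _ _ _))
    rw [wordPts_eq f π hu]
    constructor
    · intro hd
      obtain ⟨ε, q, hq⟩ := Set.mem_iUnion.1 hd
      refine Set.mem_iUnion.2 ⟨ε, (pullback.fst Q.hom V.ι).base q, ?_⟩
      rw [← e, ← hq]
      exact (Scheme.Hom.comp_apply _ _ _).symm.trans ((congrArg (fun m : (Red.bc V.ι Q).left ⟶ G.left => m.base q)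
        (Groth.GrpschAbsch.FibreFlat.isPullback_map V.ι (wordProd f π ε)).w).trans (Scheme.Hom.comp_apply _ _ _))
    · intro hd
      obtain ⟨ε, q, hq⟩ := Set.mem_iUnion.1 hd
      obtain ⟨q', -, hq'⟩ := Scheme.exists_preimage_of_isPullback
        (Groth.GrpschAbsch.FibreFlat.isPullback_map V.ι (wordProd f π ε)) q (φ'.base d1) (hq.trans e.symm)
      exact Set.mem_iUnion.2 ⟨ε, q', hq'⟩
  obtain ⟨O, hO, hOV, hgood⟩ := gnr_avoid (C := f1.base '' (φ'.base ⁻¹' Wᶜ)) (f1.isConstructible_image hE) (fun v hv => by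
    rintro ⟨d1, hd1, rfl⟩
    refine hd1 ((key d1).2 (h _ ?_))
    rw [← Scheme.Hom.comp_apply, pullback.condition, Scheme.Hom.comp_apply]
    exact hv) hne
  refine ⟨O, hO, fun U hU _ p hp => ?_⟩
  obtain ⟨d1, hd1, hd1'⟩ := Scheme.Pullback.exists_preimage_pullback (f := D.hom) (g := V.ι) p
    (⟨D.hom.base p, hOV (hU hp)⟩ : V.toScheme) rfl
  rw [← hd1]
  refine (key d1).1 (Classical.by_contradiction fun hh => hgood (f1.base d1) ?_ ⟨d1, hh, rfl⟩)
  show V.ι.base ((pullback.snd D.hom V.ι).base d1) ∈ O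
  rw [hd1']
  exact hU hp

end Groth.Sga3.CommSpread
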