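import Groth.Agent.Sga3.CommSpread.Adj
import Groth.Agent.Sga3.CommSpread.Generic
import Groth.Agent.NeronArea.GenericDense
import Groth.Agent.Agf.SubobjGrp
import Groth.Agent.GitQuot.GrpdImage
import Groth.Agent.AlgGrp1.SmoothReduced

/-!
Closed subgroup schemes over an open subset of an integral base extending a subgroup of the generic fibre.
-/

set_option autoImplicit false
set_option backward.isDefEq.respectTransparency false
set_option linter.style.haveILetI false

universe u

open CategoryTheory CategoryTheory.Limits MonoidalCategory CartesianMonoidalCategory MonObj GrpObj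
  AlgebraicGeometry TopologicalSpace Topology

noncomputable section

namespace Groth.Sga3.CommSpread

open Groth.Sga3.BddGen (wordProd wordPts)

variable {S : Scheme.{u}} [IsIntegral S] {G : Over S}

/-- `d₀` extends the closed subscheme `i` of the generic fibre. -/
structure IsClosure {D₀ : Over S} (d₀ : D₀ ⟶ G) {Γ : Over (Spec (S.residueField (genericPoint S)))}
    (i : Γ ⟶ Red.bc (gen S) G) : Prop where
  closedImmersion : IsClosedImmersion d₀.left
  sq : ∃ w : Γ.left ⟶ D₀.left, IsPullback w i.left d₀.left (pullback.fst G.hom (gen S))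

theorem exists_isClosure [QuasiSeparated G.hom] {Γ : Over (Spec (S.residueField (genericPoint S)))}
    (i : Γ ⟶ Red.bc (gen S) G) [IsClosedImmersion i.left] :
    ∃ (D₀ : Over S) (d₀ : D₀ ⟶ G), IsClosure d₀ i := by
  haveI : IsClosedImmersion (show Γ.left ⟶ G.hom.fiber (genericPoint S) from i.left) := ‹IsClosedImmersion i.left›
  obtain ⟨Z, z, w, hz, hsq⟩ := exists_closure_genericFibre G.hom (show Γ.left ⟶ G.hom.fiber (genericPoint S) from i.left)
  exact ⟨Over.mk (z ≫ G.hom), Over.homMk z rfl, hz, w, hsq⟩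

theorem isClosure_id : IsClosure (𝟙 G) (𝟙 (Red.bc (gen S) G)) := by
  refine ⟨inferInstanceAs (IsClosedImmersion (𝟙 G.left)), pullback.fst G.hom (gen S), ?_⟩
  exact IsPullback.of_vert_isIso ⟨(Category.comp_id _).trans (Category.id_comp _).symm⟩

namespace IsClosure

variable {D₀ : Over S} {d₀ : D₀ ⟶ G} {Γ : Over (Spec (S.residueField (genericPoint S)))}
  {i : Γ ⟶ Red.bc (gen S) G} (h : IsClosure d₀ i)

include h

theorem fibre (P : MorphismProperty Scheme.{u}) [P.RespectsIso] (hP : P Γ.hom) : P (Red.bc (gen S) D₀).hom := by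
  obtain ⟨w, hw⟩ := h.sq
  have sq := hw.paste_vert (IsPullback.of_hasPullback G.hom (gen S))
  rw [Over.w d₀] at sq
  have e : i.left ≫ pullback.snd G.hom (gen S) = Γ.hom := Over.w i
  rw [e] at sq
  exact fiber_of_isPullback P sq hP

/-- Points over the generic point factor through `d₀` iff they factor through `i`. -/
theorem pts {W : Over (Spec (S.residueField (genericPoint S)))} (x : push (gen S) W ⟶ G) :
    (∃ y, y ≫ d₀ = x) ↔ ∃ y', y' ≫ i = adj (gen S) x := by
  obtain ⟨w, hw⟩ := h.sq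
  constructor
  · rintro ⟨y, rfl⟩
    refine ⟨Over.homMk (hw.lift y.left (adj (gen S) (y ≫ d₀)).left (by rw [adj_left]; rfl)) ?_,
      Over.OverMorphism.ext (hw.lift_snd _ _ _)⟩
    rw [← Over.w i, ← Category.assoc, hw.lift_snd]
    exact Over.w _
  · rintro ⟨y', hy'⟩
    have e : (y'.left ≫ w) ≫ d₀.left = x.left := by
      rw [Category.assoc, hw.w, ← Category.assoc, ← Over.comp_left, hy', adj_left]
    refine ⟨Over.homMk (y'.left ≫ w) ?_, Over.OverMorphism.ext e⟩
    rw [← Over.w d₀, ← Category.assoc, e]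
    exact Over.w x

/-- The points over the generic point. -/
theorem mem_range {p : D₀.left} (hp : D₀.hom.base p = genericPoint S) :
    ∃ q : Γ.left, (pullback.fst G.hom (gen S)).base (i.left.base q) = d₀.left.base p := by
  obtain ⟨w, hw⟩ := h.sq
  have hG : G.hom.base (d₀.left.base p) = genericPoint S := by
    rw [← Scheme.Hom.comp_apply, Over.w d₀]; exact hp
  obtain ⟨g, hg⟩ : d₀.left.base p ∈ Set.range (pullback.fst G.hom (gen S)).base :=
    (G.hom.range_fiberι (genericPoint S)).ge hG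
  obtain ⟨q, -, hq⟩ := Scheme.exists_preimage_of_isPullback hw p g hg.symm
  exact ⟨q, by rw [hq]; exact hg⟩

end IsClosure

/-- Words over a base change give words. -/
theorem mem_wordPts_of_bc {S' : Scheme.{u}} (t : S' ⟶ S) [GrpObj G] {A B : Over S} (a : A ⟶ G) (b : B ⟶ G) {N : ℕ}
    {g : (Red.bc t G).left}
    (hg : g ∈ wordPts (comm ((Over.pullback t).map a) ((Over.pullback t).map b)) N) :
    (pullback.fst G.hom t).base g ∈ wordPts (comm a b) N := by
  obtain ⟨T, p, x, ε, rfl⟩ := hg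
  let x' : Fin N → (push t T ⟶ A ⊗ B) := fun j =>
    lift ((adj t).symm (x j ≫ fst _ _)) ((adj t).symm (x j ≫ snd _ _))
  have e : adjGrp t T G (wordProd (comm a b) x' ε) =
      wordProd (comm ((Over.pullback t).map a) ((Over.pullback t).map b)) x ε := by
    rw [adjGrp_wordProd, wordProd]
    refine congrArg List.prod (congrArg List.ofFn (funext fun j => ?_))
    simp only [x', ← adjGrp_symm_comm, MulEquiv.apply_symm_apply]
  refine ⟨push t T, p, x', ε, ?_⟩
  rw [← e, adjGrp_apply]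
  exact ((congrArg (fun m : T.left ⟶ G.left => m.base p) (adj_left t _)).symm).trans (Scheme.Hom.comp_apply _ _ _)

section Open

variable (U : S.Opens) (hU : (U : Set S).Nonempty)

/-- The generic point as a point of `U`. -/
def genU : Spec (S.residueField (genericPoint S)) ⟶ U.toScheme :=
  IsOpenImmersion.lift U.ι (gen S) (by
    rw [Scheme.range_fromSpecResidueField, Scheme.Opens.range_ι]
    exact Set.singleton_subset_iff.2 (generic_mem hU))

theorem genU_ι : genU U hU ≫ U.ι = gen S := IsOpenImmersion.lift_fac _ _ _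

instance quasiCompact_genU : QuasiCompact (genU U hU) :=
  ⟨fun _ _ _ => Set.Subsingleton.isCompact (Set.subsingleton_of_subsingleton)⟩

include hU in
theorem std_genU : IsSchemeTheoreticallyDominant (genU U hU) := by
  haveI : Nonempty U.toScheme := hU.to_subtype
  have : IsDominant (genU U hU) := ⟨by
    let o : ↥(Spec (S.residueField (genericPoint S))) := IsLocalRing.closedPoint _
    have e : (genU U hU).base o = genericPoint U.toScheme := by
      apply U.ι.isOpenEmbedding.injective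
      rw [genericPoint_eq_of_isOpenImmersion U.ι, ← Scheme.Hom.comp_apply, genU_ι]
      exact Scheme.fromSpecResidueField_apply _ _
    rw [DenseRange, dense_iff_closure_eq]
    refine Set.eq_univ_of_univ_subset ?_
    rw [← (genericPoint_spec U.toScheme).def]
    exact closure_mono (Set.singleton_subset_iff.2 ⟨o, e⟩)⟩
  exact .of_isDominant _

/-- The generic points of an object over `U`. -/
abbrev genObj (T : Over U.toScheme) : Over (Spec (S.residueField (genericPoint S))) :=
  Over.mk (pullback.snd T.hom (genU U hU))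

/-- The inclusion of the generic points. -/
def genIncl (T : Over U.toScheme) : push (gen S) (genObj U hU T) ⟶ push U.ι T :=
  Over.homMk (pullback.fst T.hom (genU U hU)) (by
    show pullback.fst T.hom (genU U hU) ≫ T.hom ≫ U.ι = pullback.snd T.hom (genU U hU) ≫ gen S
    rw [← Category.assoc, pullback.condition, Category.assoc, genU_ι])

/-- Restriction to the generic points. -/
def res {T : Over U.toScheme} {X : Over S} (z : T ⟶ Red.bc U.ι X) : genObj U hU T ⟶ Red.bc (gen S) X :=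
  adj (gen S) (genIncl U hU T ≫ (adj U.ι).symm z)

theorem res_comp {T : Over U.toScheme} {X Y : Over S} (z : T ⟶ Red.bc U.ι X) (φ : X ⟶ Y) :
    res U hU (z ≫ (Over.pullback U.ι).map φ) = res U hU z ≫ (Over.pullback (gen S)).map φ := by
  rw [res, res, ← adj_comp, Category.assoc]
  congr 2
  rw [Equiv.symm_apply_eq, adj_comp, Equiv.apply_symm_apply]

/-- Restriction to the generic points, as a homomorphism. -/
def resHom [GrpObj G] (T : Over U.toScheme) : (T ⟶ Red.bc U.ι G) →* (genObj U hU T ⟶ Red.bc (gen S) G) :=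
  MonoidHom.mk' (fun z => res U hU z) fun x y => by
    show adjGrp (gen S) _ G (genIncl U hU T ≫ (adjGrp U.ι T G).symm (x * y)) = _
    rw [map_mul, MonObj.comp_mul, map_mul]
    rfl

theorem resHom_apply [GrpObj G] {T : Over U.toScheme} (z : T ⟶ Red.bc U.ι G) : resHom U hU T z = res U hU z := rfl

variable {D₀ : Over S} {d₀ : D₀ ⟶ G} {Γ : Over (Spec (S.residueField (genericPoint S)))}
  {i : Γ ⟶ Red.bc (gen S) G} (hcl : IsClosure d₀ i)

include hcl

/-- A morphism from a flat object factors if it does on the generic points. -/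
theorem factor_of_gen {T : Over U.toScheme} [Flat T.hom] (x : T ⟶ Red.bc U.ι G)
    (hx : ∃ y', y' ≫ i = res U hU x) : ∃ y, y ≫ (Over.pullback U.ι).map d₀ = x := by
  obtain ⟨y, hy⟩ := (hcl.pts _).2 hx
  haveI := hcl.closedImmersion
  haveI := std_genU U hU
  obtain ⟨b, hb⟩ := Groth.NeronArea.exists_lift_of_dominant d₀.left ((adj U.ι).symm x).left
    (pullback.fst T.hom (genU U hU)) y.left (congrArg CommaMorphism.left hy)
  let b' : push U.ι T ⟶ D₀ := Over.homMk b (by
    rw [← Over.w d₀, ← Category.assoc, hb]; exact Over.w _)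
  refine ⟨adj U.ι b', ?_⟩
  rw [← adj_comp, show b' ≫ d₀ = (adj U.ι).symm x from Over.OverMorphism.ext hb, Equiv.apply_symm_apply]

theorem gen_of_factor {T : Over U.toScheme} (z : T ⟶ Red.bc U.ι D₀) :
    ∃ y', y' ≫ i = res U hU (z ≫ (Over.pullback U.ι).map d₀) := by
  refine (hcl.pts _).1 ⟨genIncl U hU T ≫ (adj U.ι).symm z, ?_⟩
  rw [Category.assoc]
  congr 1
  rw [eq_comm, Equiv.symm_apply_eq, adj_comp, Equiv.apply_symm_apply]

include hU in
/-- The subgroup over `U`. -/
theorem exists_group [GrpObj G] [GrpObj Γ] [IsMonHom i] [Flat (Red.bc U.ι D₀).hom] :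
    ∃ _ : GrpObj (Red.bc U.ι D₀), IsMonHom ((Over.pullback U.ι).map d₀) := by
  haveI := hcl.closedImmersion
  let d := (Over.pullback U.ι).map d₀
  haveI : IsClosedImmersion d.left :=
    MorphismProperty.of_isPullback (Groth.GrpschAbsch.FibreFlat.isPullback_map U.ι d₀) hcl.closedImmersion
  haveI : Mono d := Over.mono_of_mono_left d
  haveI : Flat (𝟙_ (Over U.toScheme)).hom := inferInstanceAs (Flat (𝟙 U.toScheme))
  haveI : Flat (Red.bc U.ι D₀ ⊗ Red.bc U.ι D₀).hom :=
    inferInstanceAs (Flat (pullback.fst (Red.bc U.ι D₀).hom (Red.bc U.ι D₀).hom ≫ (Red.bc U.ι D₀).hom))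
  have hres : ∀ {T : Over U.toScheme} (z : T ⟶ Red.bc U.ι D₀), ∃ y', y' ≫ i = resHom U hU T (z ≫ d) :=
    fun z => gen_of_factor U hU hcl z
  obtain ⟨o, ho⟩ := factor_of_gen U hU hcl (1 : 𝟙_ (Over U.toScheme) ⟶ Red.bc U.ι G)
    ⟨1, by rw [← resHom_apply, map_one, MonObj.one_comp]⟩
  obtain ⟨m, hm⟩ := factor_of_gen U hU hcl ((fst (Red.bc U.ι D₀) (Red.bc U.ι D₀) ≫ d) * (snd _ _ ≫ d)) (by
    obtain ⟨y₁, h₁⟩ := hres (fst (Red.bc U.ι D₀) (Red.bc U.ι D₀))
    obtain ⟨y₂, h₂⟩ := hres (snd (Red.bc U.ι D₀) (Red.bc U.ι D₀))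
    exact ⟨y₁ * y₂, by rw [← resHom_apply, map_mul, MonObj.mul_comp, h₁, h₂]⟩)
  obtain ⟨v, hv⟩ := factor_of_gen U hU hcl d⁻¹ (by
    obtain ⟨y₁, h₁⟩ := hres (𝟙 (Red.bc U.ι D₀))
    rw [Category.id_comp] at h₁
    exact ⟨y₁⁻¹, by rw [← resHom_apply, map_inv, GrpObj.inv_comp, h₁]⟩)
  refine Groth.Agf.exists_grpObj_of_subgroup d (fun T g => ∃ z : T ⟶ Red.bc U.ι D₀, z ≫ d = g) (fun T g => Iff.rfl)
    (fun T => ⟨toUnit T ≫ o, by rw [Category.assoc, ho, MonObj.comp_one]⟩) ?_ ?_
  · rintro T _ _ ⟨z, rfl⟩ ⟨z', rfl⟩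
    exact ⟨lift z z' ≫ m, by rw [Category.assoc, hm, MonObj.comp_mul, lift_fst_assoc, lift_snd_assoc]⟩
  · rintro T _ ⟨z, rfl⟩
    exact ⟨z ≫ v, by rw [Category.assoc, hv, GrpObj.comp_inv]⟩

include hU in
/-- The commutator factors over `U`. -/
theorem exists_comm_factor [GrpObj G] {A B : Over S} (a : A ⟶ G) (b : B ⟶ G)
    [Flat (Red.bc U.ι A).hom] [Flat (Red.bc U.ι B).hom]
    (hf : ∃ f', f' ≫ i = comm ((Over.pullback (gen S)).map a) ((Over.pullback (gen S)).map b)) :
    ∃ c : Red.bc U.ι A ⊗ Red.bc U.ι B ⟶ Red.bc U.ι D₀,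
      c ≫ (Over.pullback U.ι).map d₀ = comm ((Over.pullback U.ι).map a) ((Over.pullback U.ι).map b) := by
  haveI : Flat (Red.bc U.ι A ⊗ Red.bc U.ι B).hom :=
    inferInstanceAs (Flat (pullback.fst (Red.bc U.ι A).hom (Red.bc U.ι B).hom ≫ (Red.bc U.ι A).hom))
  refine factor_of_gen U hU hcl _ ?_
  obtain ⟨f', hf'⟩ := hf
  refine ⟨lift (res U hU (fst _ _)) (res U hU (snd _ _)) ≫ f', ?_⟩
  rw [Category.assoc, hf', lift_comm]
  show _ = resHom U hU _ _
  simp only [comm, map_mul, map_inv, resHom_apply, res_comp]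

include hU in
/-- Normality over `U`. -/
theorem isNormalHom_open [GrpObj G] [GrpObj Γ] [GrpObj (Red.bc U.ι D₀)] [Flat (Red.bc U.ι D₀).hom]
    [Flat (Red.bc U.ι G).hom] (hn : AlgGrp.IsNormalHom i) : AlgGrp.IsNormalHom ((Over.pullback U.ι).map d₀) := by
  let d := (Over.pullback U.ι).map d₀
  haveI : Flat (Red.bc U.ι G ⊗ Red.bc U.ι D₀).hom :=
    inferInstanceAs (Flat (pullback.fst (Red.bc U.ι G).hom (Red.bc U.ι D₀).hom ≫ (Red.bc U.ι G).hom))
  obtain ⟨y, hy⟩ := factor_of_gen U hU hcl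
    (fst (Red.bc U.ι G) (Red.bc U.ι D₀) * (snd _ _ ≫ d) * (fst (Red.bc U.ι G) (Red.bc U.ι D₀))⁻¹) (by
      obtain ⟨n, hn₁⟩ := gen_of_factor U hU hcl (snd (Red.bc U.ι G) (Red.bc U.ι D₀))
      obtain ⟨n', hn'⟩ := hn _ (res U hU (fst (Red.bc U.ι G) (Red.bc U.ι D₀))) n
      refine ⟨n', ?_⟩
      rw [← hn']
      show _ = resHom U hU _ _
      rw [map_mul, map_mul, map_inv, hn₁]
      rfl)
  intro T g n
  refine ⟨lift g n ≫ y, ?_⟩
  rw [Category.assoc, hy]
  simp [d, MonObj.comp_mul, GrpObj.comp_inv]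

include hU in
/-- A morphism whose generic fibre factors. -/
theorem factor_map {X : Over S} [Flat (Red.bc U.ι X).hom] (h : X ⟶ G)
    (hh : ∃ m, m ≫ i = (Over.pullback (gen S)).map h) :
    ∃ y, y ≫ (Over.pullback U.ι).map d₀ = (Over.pullback U.ι).map h := by
  refine factor_of_gen U hU hcl _ ?_
  obtain ⟨m, hm⟩ := hh
  refine ⟨res U hU (𝟙 _) ≫ m, ?_⟩
  rw [Category.assoc, hm, ← res_comp, Category.id_comp]

end Open

/-- Factorisations of commutators are stable under base change. -/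
theorem comm_factor_bc {S₁ S' : Scheme.{u}} (t : S' ⟶ S₁) {G₁ A₁ B₁ D₁ : Over S₁} [GrpObj G₁] (a : A₁ ⟶ G₁)
    (b : B₁ ⟶ G₁) (d : D₁ ⟶ G₁) (h : ∃ c, c ≫ d = comm a b) :
    ∃ c, c ≫ (Over.pullback t).map d = comm ((Over.pullback t).map a) ((Over.pullback t).map b) := by
  obtain ⟨c, hc⟩ := h
  refine ⟨adj t (lift ((adj t).symm (fst _ _)) ((adj t).symm (snd _ _)) ≫ c), ?_⟩
  rw [← adj_comp, Category.assoc, hc, lift_comm, ← adjGrp_apply]
  simp only [comm, map_mul, map_inv, adjGrp_apply, adj_comp, Equiv.apply_symm_apply]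

/-- Minimality on a fibre, set-theoretically. -/
theorem range_subset_fibre [GrpObj G] {D₀ A B : Over S} (d₀ : D₀ ⟶ G) (a : A ⟶ G) (b : B ⟶ G) {N : ℕ}
    {U : S.Opens} (hcov : ∀ p : D₀.left, D₀.hom.base p ∈ U → d₀.left.base p ∈ wordPts (comm a b) N)
    {L : Scheme.{u}} (τ : L ⟶ U.toScheme) {Γ' : Over L} [GrpObj Γ'] (i' : Γ' ⟶ Red.bc τ (Red.bc U.ι G))
    [IsMonHom i']
    (hc' : ∃ c', c' ≫ i' = comm ((Over.pullback τ).map ((Over.pullback U.ι).map a))
      ((Over.pullback τ).map ((Over.pullback U.ι).map b))) :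
    Set.range ((Over.pullback τ).map ((Over.pullback U.ι).map d₀)).left.base ⊆ Set.range i'.left.base := by
  rintro _ ⟨p, rfl⟩
  let d := ((Over.pullback τ).map ((Over.pullback U.ι).map d₀)).left
  let π : (Red.bc τ (Red.bc U.ι G)).left ⟶ G.left :=
    pullback.fst (Red.bc U.ι G).hom τ ≫ pullback.fst G.hom U.ι
  let πD : (Red.bc τ (Red.bc U.ι D₀)).left ⟶ D₀.left :=
    pullback.fst (Red.bc U.ι D₀).hom τ ≫ pullback.fst D₀.hom U.ι
  have hπ : d ≫ π = πD ≫ d₀.left := by
    show d ≫ pullback.fst (Red.bc U.ι G).hom τ ≫ pullback.fst G.hom U.ι = _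
    rw [← Category.assoc, show d ≫ pullback.fst (Red.bc U.ι G).hom τ = pullback.fst (Red.bc U.ι D₀).hom τ ≫
      ((Over.pullback U.ι).map d₀).left from (Groth.GrpschAbsch.FibreFlat.isPullback_map τ _).w.symm, Category.assoc,
      ← (Groth.GrpschAbsch.FibreFlat.isPullback_map U.ι d₀).w, Category.assoc]
  have hp : D₀.hom.base (πD.base p) ∈ U := by
    have : πD ≫ D₀.hom = (pullback.snd (Red.bc U.ι D₀).hom τ ≫ τ) ≫ U.ι := by
      show (pullback.fst _ _ ≫ pullback.fst D₀.hom U.ι) ≫ D₀.hom = _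
      rw [← pullback.condition, Category.assoc, pullback.condition, Category.assoc]
      rfl
    rw [← Scheme.Hom.comp_apply, this, Scheme.Hom.comp_apply]
    exact ((pullback.snd (Red.bc U.ι D₀).hom τ ≫ τ).base p).2
  obtain ⟨T, q, x, ε, hw⟩ := hcov _ hp
  have hq : (wordProd (comm a b) x ε).left.base q = π.base (d.base p) := by
    rw [hw, ← Scheme.Hom.comp_apply, ← Scheme.Hom.comp_apply]
    exact congrArg (fun m : (Red.bc τ (Red.bc U.ι D₀)).left ⟶ G.left => m.base p) hπ.symm
  obtain ⟨r, hr1, hr2⟩ := Scheme.Pullback.exists_preimage_pullback (f := (wordProd (comm a b) x ε).left) (g := π)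
    q (d.base p) hq
  let P : Over L := Over.mk (pullback.snd (wordProd (comm a b) x ε).left π ≫ (Red.bc τ (Red.bc U.ι G)).hom)
  let yτ : P ⟶ Red.bc τ (Red.bc U.ι G) := Over.homMk (pullback.snd (wordProd (comm a b) x ε).left π) rfl
  let ρ : push U.ι (push τ P) ⟶ T := Over.homMk (pullback.fst (wordProd (comm a b) x ε).left π) (by
    show pullback.fst (wordProd (comm a b) x ε).left π ≫ T.hom =
      ((pullback.snd (wordProd (comm a b) x ε).left π ≫ pullback.snd (Red.bc U.ι G).hom τ) ≫ τ) ≫ U.ι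
    rw [← Over.w (wordProd (comm a b) x ε), ← Category.assoc, pullback.condition]
    show (pullback.snd (wordProd (comm a b) x ε).left π ≫ pullback.fst (Red.bc U.ι G).hom τ ≫ pullback.fst G.hom U.ι) ≫ G.hom = _
    simp only [Category.assoc]
    rw [pullback.condition, ← Category.assoc (pullback.fst (Red.bc U.ι G).hom τ),
      show pullback.snd G.hom U.ι = (Red.bc U.ι G).hom from rfl, pullback.condition, Category.assoc])
  let E : (push U.ι (push τ P) ⟶ G) ≃* (P ⟶ Red.bc τ (Red.bc U.ι G)) :=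
    (adjGrp U.ι (push τ P) G).trans (adjGrp τ P (Red.bc U.ι G))
  have hE : E (wordProd (comm a b) (fun j => ρ ≫ x j) ε) = yτ := by
    rw [← MulEquiv.eq_symm_apply, ← Groth.Sga3.BddGen.comp_wordProd]
    refine Over.OverMorphism.ext ?_
    show pullback.fst (wordProd (comm a b) x ε).left π ≫ (wordProd (comm a b) x ε).left =
      ((adj U.ι).symm ((adj τ).symm yτ)).left
    rw [pullback.condition, adj_symm_left, adj_symm_left, Category.assoc]
    rfl
  obtain ⟨c', hc'⟩ := hc'
  let φ : (P ⟶ Γ') →* (P ⟶ Red.bc τ (Red.bc U.ι G)) :=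
    MonoidHom.mk' (fun z => z ≫ i') fun u v => MonObj.mul_comp u v i'
  have hmem : yτ ∈ φ.range := by
    rw [← hE, wordProd, map_list_prod, List.map_ofFn]
    refine list_prod_mem fun y hy => ?_
    obtain ⟨j, rfl⟩ := List.mem_ofFn.1 hy
    have hj : E ((ρ ≫ x j) ≫ comm a b) ∈ φ.range := by
      refine ⟨lift (adj τ (adj U.ι ((ρ ≫ x j) ≫ fst A B))) (adj τ (adj U.ι ((ρ ≫ x j) ≫ snd A B))) ≫ c', ?_⟩
      show (_ ≫ c') ≫ i' = _
      rw [Category.assoc, hc', comp_comm a b, lift_comm]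
      simp only [E, MulEquiv.trans_apply, map_mul, map_inv, adjGrp_apply, adj_comp]
    simp only [Function.comp_apply]
    split
    · exact hj
    · rw [map_inv]; exact inv_mem hj
  obtain ⟨z, hz⟩ := hmem
  refine ⟨z.left.base r, ?_⟩
  have hz' : z.left ≫ i'.left = pullback.snd (wordProd (comm a b) x ε).left π := congrArg CommaMorphism.left hz
  exact (Scheme.Hom.comp_apply _ _ _).symm.trans ((congrArg (fun m : P.left ⟶ (Red.bc τ (Red.bc U.ι G)).left => m.base r) hz').trans hr2)

/-- A reduced object with range in a closed subscheme factors through it. -/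
theorem exists_factor_over {T X Y : Over S} [IsReduced T.left] (y : Y ⟶ X) [IsClosedImmersion y.left]
    (φ : T ⟶ X) (h : Set.range φ.left.base ⊆ Set.range y.left.base) : ∃ j : T ⟶ Y, j ≫ y = φ := by
  obtain ⟨t, ht⟩ := Groth.GrpdImage.exists_factor_of_range_subset y.left φ.left h
  exact ⟨Over.homMk t (by rw [← Over.w y, ← Category.assoc, ht, Over.w]), Over.OverMorphism.ext ht⟩

end Groth.Sga3.CommSpread
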