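import Groth.Agent.Sga3.CommSpread.Field
import Groth.Agent.Sga3.CommSpread.Engine
import Groth.Agent.Agf.ClosedSubgroup

/-!
Commutator subgroup schemes over an open subset of an integral base.
-/

set_option autoImplicit false
set_option backward.isDefEq.respectTransparency false
set_option linter.style.haveILetI false

universe u

open CategoryTheory CategoryTheory.Limits MonoidalCategory CartesianMonoidalCategory MonObj GrpObj
  AlgebraicGeometry TopologicalSpace Topology

noncomputable section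

namespace Groth.Sga3.CommSpread

open Groth.Sga3.BddGen (wordPts)

variable {S : Scheme.{u}} [IsIntegral S] {G : Over S} [GrpObj G]
  [LocallyOfFinitePresentation G.hom] [QuasiCompact G.hom] [QuasiSeparated G.hom]

/-- Flat, of finite presentation, with smooth fibres. -/
def GoodObj (X : Over S) (U : S.Opens) : Prop :=
  (Flat (Red.bc U.ι X).hom ∧ LocallyOfFinitePresentation (Red.bc U.ι X).hom) ∧ SmoothOn X U

/-- A closed subscheme extending a subgroup of the generic fibre, with its relation to the words. -/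
theorem exists_closure_data {A B : Over S} [LocallyOfFiniteType A.hom] [QuasiCompact A.hom]
    [LocallyOfFiniteType B.hom] [QuasiCompact B.hom] (a : A ⟶ G) (b : B ⟶ G)
    {Γ : Over (Spec (S.residueField (genericPoint S)))} (i : Γ ⟶ Red.bc (gen S) G) [IsClosedImmersion i.left]
    (hsm : Smooth Γ.hom) {N : ℕ}
    (hN : Set.range i.left.base = wordPts (comm ((Over.pullback (gen S)).map a) ((Over.pullback (gen S)).map b)) N) :
    ∃ (D₀ : Over S) (d₀ : D₀ ⟶ G), IsClosure d₀ i ∧ IsClosedImmersion d₀.left ∧ LocallyOfFiniteType D₀.hom ∧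
      QuasiCompact D₀.hom ∧ QuasiSeparated D₀.hom ∧
      Gnr fun U => GoodObj D₀ U ∧ (∀ p : D₀.left, D₀.hom.base p ∈ U → d₀.left.base p ∈ wordPts (comm a b) N) := by
  obtain ⟨D₀, d₀, hcl⟩ := exists_isClosure i
  haveI := hcl.closedImmersion
  haveI hlD : LocallyOfFiniteType D₀.hom := by rw [← Over.w d₀]; infer_instance
  haveI hqD : QuasiCompact D₀.hom := by rw [← Over.w d₀]; infer_instance
  haveI hsD : QuasiSeparated D₀.hom := by rw [← Over.w d₀]; infer_instance
  haveI : LocallyOfFiniteType (A ⊗ B).hom := inferInstanceAs (LocallyOfFiniteType (pullback.fst A.hom B.hom ≫ A.hom))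
  haveI : QuasiCompact (A ⊗ B).hom := inferInstanceAs (QuasiCompact (pullback.fst A.hom B.hom ≫ A.hom))
  refine ⟨D₀, d₀, hcl, inferInstance, hlD, hqD, hsD,
    ((gnr_flat D₀).and (gnr_smooth D₀ (hcl.fibre @Smooth hsm))).and (gnr_covered d₀ (comm a b) N fun p hp => ?_)⟩
  obtain ⟨q, hq⟩ := hcl.mem_range hp
  rw [← hq]
  exact mem_wordPts_of_bc (gen S) a b (hN.subset ⟨q, rfl⟩)

/-- The commutator subgroup of the generic fibre and its extension. -/
theorem exists_comm_data {A B : Over S} [GrpObj A] [GrpObj B]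
    [LocallyOfFinitePresentation A.hom] [QuasiCompact A.hom] [LocallyOfFinitePresentation B.hom] [QuasiCompact B.hom]
    (a : A ⟶ G) [IsMonHom a] [IsImmersion a.left] (b : B ⟶ G) [IsMonHom b] [IsImmersion b.left]
    (hsmA : Smooth (Red.bc (gen S) A).hom) (hsmB : Smooth (Red.bc (gen S) B).hom)
    (hcase : ConnectedSpace (Red.bc (gen S) A).left ∨ (AlgGrp.IsNormalHom a ∧ AlgGrp.IsNormalHom b)) :
    ∃ (Γ : Over (Spec (S.residueField (genericPoint S)))) (_ : GrpObj Γ) (i : Γ ⟶ Red.bc (gen S) G)
      (D₀ : Over S) (d₀ : D₀ ⟶ G) (N : ℕ),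
      IsMonHom i ∧ IsClosedImmersion i.left ∧ IsClosure d₀ i ∧ IsClosedImmersion d₀.left ∧
      LocallyOfFiniteType D₀.hom ∧ QuasiCompact D₀.hom ∧ QuasiSeparated D₀.hom ∧
      (∃ f', f' ≫ i = comm ((Over.pullback (gen S)).map a) ((Over.pullback (gen S)).map b)) ∧
      (AlgGrp.IsNormalHom a ∧ AlgGrp.IsNormalHom b → AlgGrp.IsNormalHom i) ∧
      Gnr fun U => (GoodObj D₀ U ∧ ∀ p : D₀.left, D₀.hom.base p ∈ U → d₀.left.base p ∈ wordPts (comm a b) N) ∧
        (ConnectedSpace (Red.bc (gen S) A).left → ∀ u : U.toScheme, ConnectedSpace ↥((Red.bc U.ι D₀).hom.fiber u)) := by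
  let K : Type u := S.residueField (genericPoint S)
  let G' : Over (Spec (CommRingCat.of K)) := Red.bc (gen S) G
  let A' : Over (Spec (CommRingCat.of K)) := Red.bc (gen S) A
  let B' : Over (Spec (CommRingCat.of K)) := Red.bc (gen S) B
  let a' : A' ⟶ G' := (Over.pullback (gen S)).map a
  let b' : B' ⟶ G' := (Over.pullback (gen S)).map b
  letI : GrpObj G' := Red.grpObj_bc (gen S) G
  letI : GrpObj A' := Red.grpObj_bc (gen S) A
  letI : GrpObj B' := Red.grpObj_bc (gen S) B
  haveI : LocallyOfFiniteType G'.hom := inferInstanceAs (LocallyOfFiniteType (pullback.snd G.hom (gen S)))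
  haveI : IsMonHom a' := inferInstanceAs (IsMonHom ((Over.pullback (gen S)).map a))
  haveI : IsMonHom b' := inferInstanceAs (IsMonHom ((Over.pullback (gen S)).map b))
  haveI : IsImmersion a'.left :=
    MorphismProperty.of_isPullback (Groth.GrpschAbsch.FibreFlat.isPullback_map (gen S) a) ‹IsImmersion a.left›
  haveI : IsImmersion b'.left :=
    MorphismProperty.of_isPullback (Groth.GrpschAbsch.FibreFlat.isPullback_map (gen S) b) ‹IsImmersion b.left›
  haveI : IsClosedImmersion a'.left := Groth.Agf.isClosedImmersion_of_subgroup a'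
  haveI : IsClosedImmersion b'.left := Groth.Agf.isClosedImmersion_of_subgroup b'
  haveI : QuasiCompact A'.hom := inferInstanceAs (QuasiCompact (pullback.snd A.hom (gen S)))
  haveI : QuasiCompact B'.hom := inferInstanceAs (QuasiCompact (pullback.snd B.hom (gen S)))
  haveI : GeometricallyReduced A'.hom := by
    haveI : Smooth A'.hom := hsmA
    exact Groth.AlgGrp1.geometricallyReduced_of_smooth _
  haveI : GeometricallyReduced B'.hom := by
    haveI : Smooth B'.hom := hsmB
    exact Groth.AlgGrp1.geometricallyReduced_of_smooth _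
  obtain ⟨Γ, _, i, hmon, hci, -, hsm, hf, -, hconn, hnorm, N, hN⟩ := exists_comm_subgroup a' b' (by
    rcases hcase with h | h
    · exact Or.inr h
    · exact Or.inl ⟨isNormalHom_bc (gen S) a h.1, isNormalHom_bc (gen S) b h.2, inferInstance⟩)
  haveI : IsClosedImmersion i.left := hci
  obtain ⟨D₀, d₀, hcl, hd, hlD, hqD, hsD, hgood⟩ := exists_closure_data (G := G) a b (Γ := Γ) i hsm hN
  refine ⟨Γ, inferInstance, i, D₀, d₀, N, hmon, hci, hcl, hd, hlD, hqD, hsD, hf,
    fun h => hnorm ⟨isNormalHom_bc (gen S) a h.1, isNormalHom_bc (gen S) b h.2⟩, hgood.and ?_⟩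
  by_cases hA : ConnectedSpace (Red.bc (gen S) A).left
  · obtain ⟨O, hO, h⟩ := gnr_connected D₀ (hcl.fibre @GeometricallyConnected (hconn hA))
    exact ⟨O, hO, fun U hU hne _ => h U hU hne⟩
  · exact Gnr.of_forall fun U h => absurd h hA

omit [QuasiCompact G.hom] [QuasiSeparated G.hom] [LocallyOfFinitePresentation G.hom] in
/-- The fibre of a good subscheme is the commutator subgroup of the fibres. -/
theorem fibre_minimal {A B D₀ : Over S} (d₀ : D₀ ⟶ G) (a : A ⟶ G) (b : B ⟶ G) {N : ℕ} {U : S.Opens}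
    (hsm : SmoothOn D₀ U) (hcov : ∀ p : D₀.left, D₀.hom.base p ∈ U → d₀.left.base p ∈ wordPts (comm a b) N)
    (u : U.toScheme) (Γ' : Over (Spec (U.toScheme.residueField u))) (_ : GrpObj Γ')
    (i' : Γ' ⟶ Red.bc (U.toScheme.fromSpecResidueField u) (Red.bc U.ι G)) (_ : IsMonHom i') (_ : IsClosedImmersion i'.left)
    (hc' : ∃ c', c' ≫ i' = comm ((Over.pullback (U.toScheme.fromSpecResidueField u)).map ((Over.pullback U.ι).map a))
      ((Over.pullback (U.toScheme.fromSpecResidueField u)).map ((Over.pullback U.ι).map b))) :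
    ∃ j : Red.bc (U.toScheme.fromSpecResidueField u) (Red.bc U.ι D₀) ⟶ Γ',
      j ≫ i' = (Over.pullback (U.toScheme.fromSpecResidueField u)).map ((Over.pullback U.ι).map d₀) := by
  haveI : Smooth (pullback.snd (Red.bc U.ι D₀).hom (U.toScheme.fromSpecResidueField u)) := hsm u
  haveI : IsReduced (Red.bc (U.toScheme.fromSpecResidueField u) (Red.bc U.ι D₀)).left :=
    Groth.AlgGrp1.isReduced_of_smooth (k := U.toScheme.residueField u)
      (pullback.snd (Red.bc U.ι D₀).hom (U.toScheme.fromSpecResidueField u))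
  exact exists_factor_over i' _ (range_subset_fibre d₀ a b hcov _ i' hc')

end Groth.Sga3.CommSpread
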