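import Groth.Agent.Sga3.CommSpread.Main

/-!
Derived series of the fibres over an open subset of an integral base.
-/

set_option autoImplicit false
set_option backward.isDefEq.respectTransparency false
set_option linter.style.haveILetI false

universe u

open CategoryTheory CategoryTheory.Limits MonoidalCategory CartesianMonoidalCategory MonObj GrpObj
  AlgebraicGeometry TopologicalSpace Topology

noncomputable section

namespace Groth.Sga3.CommSpread

open Groth.Sga3.BddGen (wordPts wordProd)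

theorem tensor_comm {S : Scheme.{u}} {G A A' B B' : Over S} [GrpObj G] (φ : A ⟶ A') (ψ : B ⟶ B') (a : A' ⟶ G)
    (b : B' ⟶ G) : lift (fst A B ≫ φ) (snd A B ≫ ψ) ≫ comm a b = comm (φ ≫ a) (ψ ≫ b) := by
  rw [lift_comm]; simp only [comm, Category.assoc]

theorem wordPts_comm_subset {S : Scheme.{u}} {G A A' B B' : Over S} [GrpObj G] {a : A ⟶ G} {b : B ⟶ G}
    {a' : A' ⟶ G} {b' : B' ⟶ G} (φ : A ⟶ A') (hφ : φ ≫ a' = a) (ψ : B ⟶ B') (hψ : ψ ≫ b' = b) (N : ℕ) :
    wordPts (comm a b) N ⊆ wordPts (comm a' b') N := by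
  rintro _ ⟨T, p, x, ε, rfl⟩
  refine ⟨T, p, fun j => x j ≫ lift (fst A B ≫ φ) (snd A B ≫ ψ), ε, ?_⟩
  have : wordProd (comm a' b') (fun j => x j ≫ lift (fst A B ≫ φ) (snd A B ≫ ψ)) ε = wordProd (comm a b) x ε := by
    unfold wordProd
    refine congrArg List.prod (congrArg List.ofFn (funext fun j => ?_))
    simp only [Category.assoc, tensor_comm, hφ, hψ]
  rw [this]

/-- A closed subgroup, bundled. -/
structure Sub {T : Scheme.{u}} (G : Over T) [GrpObj G] where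
  K : Over T
  grp : GrpObj K
  emb : K ⟶ G
  hom : IsMonHom emb
  closed : IsClosedImmersion emb.left

attribute [instance] Sub.grp

/-- `b` is the commutator subgroup of `a` with itself. -/
def Sub.IsStep {T : Scheme.{u}} {G : Over T} [GrpObj G] (a b : Sub G) : Prop :=
  (∃ c, c ≫ b.emb = comm a.emb a.emb) ∧
    ∀ (Γ' : Over T) (_ : GrpObj Γ') (i' : Γ' ⟶ G), IsMonHom i' → IsClosedImmersion i'.left →
      (∃ c', c' ≫ i' = comm a.emb a.emb) → ∃ j : b.K ⟶ Γ', j ≫ i' = b.emb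

/-- A derived series ending at `d`. -/
def IsDerived {T : Scheme.{u}} {G D : Over T} [GrpObj G] (n : ℕ) (d : D ⟶ G) : Prop :=
  ∃ L : ℕ → Sub G, IsIso (L 0).emb ∧ (∀ p < n, (L p).IsStep (L (p + 1))) ∧
    ∃ e : D ≅ (L n).K, e.hom ≫ (L n).emb = d

variable {S : Scheme.{u}} [IsIntegral S] (G : Over S) [GrpObj G]
  [LocallyOfFinitePresentation G.hom] [QuasiCompact G.hom] [QuasiSeparated G.hom]

theorem exists_chain (hsm : Smooth (Red.bc (gen S) G).hom) : ∀ n : ℕ,
    ∃ (Γ : Over (Spec (S.residueField (genericPoint S)))) (_ : GrpObj Γ) (i : Γ ⟶ Red.bc (gen S) G)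
      (D₀ : Over S) (d₀ : D₀ ⟶ G),
      IsMonHom i ∧ IsClosedImmersion i.left ∧ QuasiCompact Γ.hom ∧ Smooth Γ.hom ∧ AlgGrp.IsNormalHom i ∧
      IsClosure d₀ i ∧ LocallyOfFiniteType D₀.hom ∧ QuasiCompact D₀.hom ∧ QuasiSeparated D₀.hom ∧
      Gnr fun U => GoodObj D₀ U ∧ Flat (Red.bc U.ι G).hom ∧ ∀ u : U.toScheme,
        IsDerived n ((Over.pullback (U.toScheme.fromSpecResidueField u)).map ((Over.pullback U.ι).map d₀)) := by
  intro n
  induction n with
  | zero =>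
    refine ⟨Red.bc (gen S) G, inferInstance, 𝟙 _, G, 𝟙 G, inferInstance,
      inferInstanceAs (IsClosedImmersion (𝟙 (Red.bc (gen S) G).left)), inferInstanceAs (QuasiCompact (pullback.snd G.hom (gen S))),
      hsm, fun T g m => ⟨g * m * g⁻¹, by simp⟩, isClosure_id, inferInstance, inferInstance, inferInstance, ?_⟩
    obtain ⟨O, hO, h⟩ := (gnr_flat G).and (gnr_smooth G hsm)
    refine ⟨O, hO, fun U hU hne => ⟨⟨(h U hU hne).1, (h U hU hne).2⟩, (h U hU hne).1.1, fun u => ?_⟩⟩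
    let G' := Red.bc (U.toScheme.fromSpecResidueField u) (Red.bc U.ι G)
    let L₀ : Sub G' := ⟨G', inferInstance, 𝟙 G', inferInstance, inferInstanceAs (IsClosedImmersion (𝟙 G'.left))⟩
    refine ⟨fun _ => L₀, inferInstanceAs (IsIso (𝟙 G')), fun p hp => absurd hp (Nat.not_lt_zero p), Iso.refl _, ?_⟩
    show 𝟙 G' ≫ 𝟙 G' = _
    simp only [CategoryTheory.Functor.map_id, Category.id_comp]
    rfl
  | succ n ih =>
    obtain ⟨Γ, _, i, D₀, d₀, hmon, hci, hqc, hsmΓ, hn, hcl, hlD, hqD, hsD, hgood⟩ := ih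
    let K : Type u := S.residueField (genericPoint S)
    let G' : Over (Spec (CommRingCat.of K)) := Red.bc (gen S) G
    letI : GrpObj G' := Red.grpObj_bc (gen S) G
    haveI : LocallyOfFiniteType G'.hom := inferInstanceAs (LocallyOfFiniteType (pullback.snd G.hom (gen S)))
    let Γ' : Over (Spec (CommRingCat.of K)) := Γ
    letI : GrpObj Γ' := ‹GrpObj Γ›
    let i' : Γ' ⟶ G' := i
    haveI : IsMonHom i' := hmon
    haveI : IsClosedImmersion i'.left := hci
    haveI : QuasiCompact Γ'.hom := hqc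
    haveI : GeometricallyReduced Γ'.hom := by
      haveI : Smooth Γ'.hom := hsmΓ
      exact Groth.AlgGrp1.geometricallyReduced_of_smooth _
    obtain ⟨Γ₂, _, i₂, hmon₂, hci₂, hqc₂, hsm₂, hf₂, -, -, hnorm₂, N, hN⟩ :=
      exists_comm_subgroup i' i' (Or.inl ⟨hn, hn, inferInstance⟩)
    obtain ⟨φ, hφ⟩ : ∃ φ : Red.bc (gen S) D₀ ⟶ Γ, φ ≫ i = (Over.pullback (gen S)).map d₀ := by
      obtain ⟨φ, hφ⟩ := (hcl.pts ((adj (gen S)).symm (𝟙 _) ≫ d₀)).1 ⟨_, rfl⟩
      exact ⟨φ, by rw [hφ, adj_comp, Equiv.apply_symm_apply, Category.id_comp]⟩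
    obtain ⟨ψ, hψ⟩ : ∃ ψ : Γ ⟶ Red.bc (gen S) D₀, ψ ≫ (Over.pullback (gen S)).map d₀ = i := by
      obtain ⟨y, hy⟩ := (hcl.pts ((adj (gen S)).symm i)).2 ⟨𝟙 Γ, by simp⟩
      exact ⟨adj (gen S) y, by rw [← adj_comp, hy, Equiv.apply_symm_apply]⟩
    haveI : IsClosedImmersion i₂.left := hci₂
    have hN' : Set.range i₂.left.base =
        wordPts (comm ((Over.pullback (gen S)).map d₀) ((Over.pullback (gen S)).map d₀)) N := by
      rw [hN]
      exact (wordPts_comm_subset ψ hψ ψ hψ N).antisymm (wordPts_comm_subset φ hφ φ hφ N)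
    obtain ⟨D₂, d₂, hcl₂, hd₂, hlD₂, hqD₂, hsD₂, hgood₂⟩ :=
      exists_closure_data (G := G) d₀ d₀ (Γ := Γ₂) i₂ hsm₂ hN'
    refine ⟨Γ₂, inferInstance, i₂, D₂, d₂, hmon₂, hci₂, hqc₂, hsm₂, hnorm₂ ⟨hn, hn⟩, hcl₂, hlD₂, hqD₂, hsD₂, ?_⟩
    obtain ⟨O, hO, h⟩ := hgood.and hgood₂
    refine ⟨O, hO, fun U hU hne => ?_⟩
    obtain ⟨⟨hg₀, hflG, hchain⟩, hg₂, hcov⟩ := h U hU hne
    obtain ⟨⟨hfl₀, -⟩, -⟩ := hg₀
    refine ⟨hg₂, hflG, fun u => ?_⟩
    obtain ⟨⟨hfl₂, -⟩, hsm₂U⟩ := hg₂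
    let τ := U.toScheme.fromSpecResidueField u
    haveI := hmon₂
    obtain ⟨_, hmonD⟩ := exists_group (i := i₂) U hne hcl₂
    have hcomm : ∃ c, c ≫ (Over.pullback τ).map ((Over.pullback U.ι).map d₂) =
        comm ((Over.pullback τ).map ((Over.pullback U.ι).map d₀)) ((Over.pullback τ).map ((Over.pullback U.ι).map d₀)) := by
      refine comm_factor_bc τ _ _ _ (exists_comm_factor U hne hcl₂ d₀ d₀ ?_)
      obtain ⟨f', hf'⟩ := hf₂
      refine ⟨lift (fst _ _ ≫ φ) (snd _ _ ≫ φ) ≫ f', ?_⟩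
      exact (Category.assoc _ _ _).trans ((congrArg (_ ≫ ·) hf').trans ((tensor_comm φ φ i i).trans (by rw [hφ])))
    obtain ⟨L, h0, hstep, e, he⟩ := hchain u
    let Gs := Red.bc τ (Red.bc U.ι G)
    let Lnew : Sub Gs := ⟨Red.bc τ (Red.bc U.ι D₂), inferInstance, (Over.pullback τ).map ((Over.pullback U.ι).map d₂),
      inferInstance, MorphismProperty.of_isPullback (Groth.GrpschAbsch.FibreFlat.isPullback_map τ _)
        (MorphismProperty.of_isPullback (Groth.GrpschAbsch.FibreFlat.isPullback_map U.ι d₂) hd₂)⟩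
    refine ⟨Function.update L (n + 1) Lnew, ?_, fun p hp => ?_, ?_⟩
    · rw [Function.update_of_ne (show (0 : ℕ) ≠ n + 1 by omega)]; exact h0
    · rcases Nat.lt_succ_iff_lt_or_eq.1 hp with hp | rfl
      · rw [Function.update_of_ne (show p ≠ n + 1 by omega), Function.update_of_ne (show p + 1 ≠ n + 1 by omega)]
        exact hstep p hp
      · rw [Function.update_of_ne (show p ≠ p + 1 by omega), Function.update_self]
        have he' : e.inv ≫ (Over.pullback τ).map ((Over.pullback U.ι).map d₀) = (L p).emb := by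
          rw [← he, Iso.inv_hom_id_assoc]
        refine ⟨?_, fun Γ₀ inst i₀ hi hi' hc' => ?_⟩
        · obtain ⟨c, hc⟩ := hcomm
          refine ⟨lift (fst _ _ ≫ e.inv) (snd _ _ ≫ e.inv) ≫ c, ?_⟩
          show (_ ≫ c) ≫ (Over.pullback τ).map ((Over.pullback U.ι).map d₂) = _
          rw [Category.assoc, hc, tensor_comm, he']
        · refine fibre_minimal d₂ d₀ d₀ hsm₂U hcov u Γ₀ inst i₀ hi hi' ?_
          obtain ⟨c', hc'⟩ := hc'
          refine ⟨lift (fst _ _ ≫ e.hom) (snd _ _ ≫ e.hom) ≫ c', ?_⟩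
          rw [Category.assoc, hc', tensor_comm, he]
    · rw [Function.update_self]
      exact ⟨Iso.refl _, Category.id_comp _⟩

end Groth.Sga3.CommSpread
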