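import Groth.Agent.Sga3.CommSpread.Adj
import Groth.Agent.Sga3.BddGen.Field
import Groth.Agent.GenSub.Dense
import Groth.Agent.AlgGrp1.SmoothReduced
import Groth.Agent.GrpschAbsch.GrpEtaleRel
import Groth.Agent.S5364
import Groth.Agent.S5365

/-!
The commutator subgroup scheme over a field: existence and properties.
-/

set_option autoImplicit false
set_option backward.isDefEq.respectTransparency false
set_option linter.style.haveILetI false

universe u

open CategoryTheory CategoryTheory.Limits MonoidalCategory CartesianMonoidalCategory MonObj GrpObj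
  AlgebraicGeometry TopologicalSpace Topology
open scoped commutatorElement Pointwise

noncomputable section

namespace Groth.Sga3.CommSpread

open Groth.Sga3.BddGen Groth.Sga3.Solvable Groth.AlgGrp1

attribute [local instance] ptsTopology

variable {k : Type u} [Field k] {G A B : Over (Spec (CommRingCat.of k))} [GrpObj G] [GrpObj A] [GrpObj B]
  [LocallyOfFiniteType G.hom] (a : A ⟶ G) [IsMonHom a] [IsClosedImmersion a.left] (b : B ⟶ G) [IsMonHom b]
  [IsClosedImmersion b.left] [GeometricallyReduced A.hom] [GeometricallyReduced B.hom] [QuasiCompact B.hom]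

/-- Bounded generation over an algebraic closure. -/
theorem bdd_comm {K : Type u} [Field K] [IsAlgClosed K] (φ : Spec (CommRingCat.of K) ⟶ Spec (CommRingCat.of k))
    (hcase : (AlgGrp.IsNormalHom a ∧ AlgGrp.IsNormalHom b ∧ QuasiCompact A.hom) ∨ ConnectedSpace A.left) :
    Bdd (imgSet ((Over.pullback φ).map (comm a b))) := by
  haveI hlA : LocallyOfFiniteType A.hom := by rw [← Over.w a]; infer_instance
  haveI hlB : LocallyOfFiniteType B.hom := by rw [← Over.w b]; infer_instance
  haveI : LocallyOfFiniteType (Red.bc φ G).hom := inferInstanceAs (LocallyOfFiniteType (pullback.snd G.hom φ))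
  haveI : QuasiCompact (Red.bc φ B).hom := inferInstanceAs (QuasiCompact (pullback.snd B.hom φ))
  haveI : IsClosedImmersion ((Over.pullback φ).map a).left :=
    MorphismProperty.of_isPullback (Groth.GrpschAbsch.FibreFlat.isPullback_map φ a) ‹IsClosedImmersion a.left›
  haveI : IsClosedImmersion ((Over.pullback φ).map b).left :=
    MorphismProperty.of_isPullback (Groth.GrpschAbsch.FibreFlat.isPullback_map φ b) ‹IsClosedImmersion b.left›
  haveI : IsMonHom ((Over.pullback φ).map a) := inferInstance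
  haveI : IsMonHom ((Over.pullback φ).map b) := inferInstance
  obtain ⟨As, hAs⟩ := ptsSub (Red.bc φ G) ((Over.pullback φ).map a)
  obtain ⟨Bs, hBs⟩ := ptsSub (Red.bc φ G) ((Over.pullback φ).map b)
  have hnorm : ∀ {C : Over (Spec (CommRingCat.of k))} [GrpObj C] (c : C ⟶ G), AlgGrp.IsNormalHom c →
      ∀ (Cs : Subgroup (Pts (Red.bc φ G))), (Cs : Set (Pts (Red.bc φ G))) = imgSet ((Over.pullback φ).map c) →
        Cs.Normal := by
    intro C _ c hc Cs hCs
    refine ⟨fun x hx g => ?_⟩
    rw [← SetLike.mem_coe, hCs] at hx ⊢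
    obtain ⟨n, rfl⟩ := hx
    obtain ⟨m, hm⟩ := isNormalHom_bc φ c hc _ g n
    exact ⟨m, hm.symm⟩
  have hb := bdd_commutator ((Over.pullback φ).map a) ((Over.pullback φ).map b) As Bs hAs hBs (by
    rcases hcase with ⟨h1, h2, h3⟩ | h
    · exact Or.inl ⟨hnorm a h1 As hAs, hnorm b h2 Bs hBs, inferInstanceAs (QuasiCompact (pullback.snd A.hom φ))⟩
    · refine Or.inr ?_
      haveI := Groth.AlgGrp1.geometricallyConnected_of_point A.hom η[A].left (Over.w η[A])
      exact GeometricallyConnected.geometrically_connectedSpace (f := A.hom) φ _ _ (IsPullback.of_hasPullback A.hom φ))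
  suffices h : imgSet ((Over.pullback φ).map (comm a b)) = commSet As Bs by rw [h]; exact hb
  ext g
  rw [imgSet_map]
  constructor
  · rintro ⟨_, ⟨z, rfl⟩, rfl⟩
    have h1 := toPt_comp φ (z ≫ fst A B) a
    have h2 := toPt_comp φ (z ≫ snd A B) b
    refine ⟨_, hAs.symm.subset ⟨toPt φ (z ≫ fst A B), rfl⟩, _, hBs.symm.subset ⟨toPt φ (z ≫ snd A B), rfl⟩, ?_⟩
    simp only [comp_comm, map_mul, map_inv, rho_comp, commutatorElement_def]
  · rintro ⟨x, hx, y, hy, rfl⟩
    rw [← SetLike.mem_coe, hAs, imgSet_map] at hx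
    rw [← SetLike.mem_coe, hBs, imgSet_map] at hy
    obtain ⟨_, ⟨x, rfl⟩, rfl⟩ := hx
    obtain ⟨_, ⟨y, rfl⟩, rfl⟩ := hy
    exact ⟨_, ⟨lift x y, rfl⟩, by simp only [lift_comm, map_mul, map_inv, commutatorElement_def]⟩

/-- The commutator subgroup scheme over a field. -/
theorem exists_comm_subgroup
    (hcase : (AlgGrp.IsNormalHom a ∧ AlgGrp.IsNormalHom b ∧ QuasiCompact A.hom) ∨ ConnectedSpace A.left) :
    ∃ (Γ : Over (Spec (CommRingCat.of k))) (_ : GrpObj Γ) (i : Γ ⟶ G),
      IsMonHom i ∧ IsClosedImmersion i.left ∧ QuasiCompact Γ.hom ∧ Smooth Γ.hom ∧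
      (∃ f' : A ⊗ B ⟶ Γ, f' ≫ i = comm a b) ∧
      (∀ (Γ' : Over (Spec (CommRingCat.of k))) (_ : GrpObj Γ') (i' : Γ' ⟶ G), IsMonHom i' → IsClosedImmersion i'.left →
        (∃ f'' : A ⊗ B ⟶ Γ', f'' ≫ i' = comm a b) → ∃ j : Γ ⟶ Γ', j ≫ i' = i) ∧
      (ConnectedSpace A.left → GeometricallyConnected Γ.hom) ∧
      (AlgGrp.IsNormalHom a ∧ AlgGrp.IsNormalHom b → AlgGrp.IsNormalHom i) ∧
      ∃ N : ℕ, Set.range i.left.base = wordPts (comm a b) N := by
  haveI hlA : LocallyOfFiniteType A.hom := by rw [← Over.w a]; infer_instance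
  haveI hlB : LocallyOfFiniteType B.hom := by rw [← Over.w b]; infer_instance
  haveI := Groth.GenSub.geometricallyReduced_tensor A B
  obtain ⟨Γ, _, i, d, hmon, hc, hgeo, -, -, hf, hmin⟩ := Groth.GenSub.exists_generated (comm a b)
  haveI hlΓ : LocallyOfFiniteType Γ.hom := by rw [← Over.w i]; infer_instance
  obtain ⟨hqc, hconn⟩ := Groth.Agent.S5365.result k G A B a b hcase Γ i hf hmin
  haveI hqcA : QuasiCompact A.hom := by
    rcases hcase with h | h
    · exact h.2.2
    · haveI : CompactSpace A.left := ⟨by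
        rw [← PreconnectedSpace.connectedComponent_eq_univ (Groth.GrpschAbsch.unitPt A)]
        exact Groth.GrpschAbsch.isCompact_connectedComponent_one A⟩
      exact (quasiCompact_iff_compactSpace A.hom).2 inferInstance
  refine ⟨Γ, inferInstance, i, hmon, hc, hqc, Groth.GrpschAbsch.smooth_of_geometricallyReduced Γ, hf, hmin,
    fun h => ?_, fun h => Groth.Agent.S5364.result k G A B a b h.1 h.2 Γ i hf hmin, ?_⟩
  · haveI := hconn h
    exact Groth.AlgGrp1.geometricallyConnected_of_point Γ.hom η[Γ].left (Over.w η[Γ])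
  · let φ : Spec (CommRingCat.of (AlgebraicClosure k)) ⟶ Spec (CommRingCat.of k) :=
      Spec.map (CommRingCat.ofHom (algebraMap k (AlgebraicClosure k)))
    obtain ⟨hX, hX'⟩ : LocallyOfFiniteType (A ⊗ B).hom ∧ QuasiCompact (A ⊗ B).hom :=
      ⟨inferInstanceAs (LocallyOfFiniteType (pullback.fst A.hom B.hom ≫ A.hom)),
        inferInstanceAs (QuasiCompact (pullback.fst A.hom B.hom ≫ A.hom))⟩
    exact range_eq_wordPts φ (comm a b) (bdd_comm a b φ hcase) Γ i hf hmin

end Groth.Sga3.CommSpread
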