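import Groth.Agent.SpectralTopology.Constructible
import Groth.Agent.Calg4.FlatClosureDedekind
import Groth.Agent.Valuative.ProperAt
import Groth.Agent.FlatMorOne.GenFlatScheme
import Groth.Agent.CMMor.SmoothFibre
import Groth.Agent.GeomComp.Constructible
import Groth.Agent.S1335
import Mathlib.AlgebraicGeometry.Morphisms.Smooth

/-!
Fibres at field-valued points, open sets avoiding constructible sets, closures of closed subschemes of
the generic fibre.
-/

set_option autoImplicit false
set_option backward.isDefEq.respectTransparency false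
set_option linter.style.haveILetI false

universe u

open CategoryTheory CategoryTheory.Limits AlgebraicGeometry TopologicalSpace Topology

noncomputable section

namespace Groth.Sga3.CommSpread

/-- A property stable under base change passes from the fibre to any field-valued point over it. -/
theorem of_fibre (P : MorphismProperty Scheme.{u}) [P.IsStableUnderBaseChange] {X S Z : Scheme.{u}} (f : X ⟶ S)
    {K : Type u} [Field K] {t : Spec (CommRingCat.of K) ⟶ S} {p : Z ⟶ X} {q : Z ⟶ Spec (CommRingCat.of K)}
    (sq : IsPullback p q f t) {s : S} (hs : t.base (IsLocalRing.closedPoint K) = s)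
    (h : P (f.fiberToSpecResidueField s)) : P q := by
  obtain ⟨θ, hθ⟩ := Groth.Valuative.exists_factor_residue t hs
  let F := IsPullback.of_hasPullback f (S.fromSpecResidueField s)
  let r : Z ⟶ pullback f (S.fromSpecResidueField s) :=
    F.lift p (q ≫ Spec.map θ) (by rw [Category.assoc, hθ, sq.w])
  have sq' : IsPullback r q (pullback.snd f (S.fromSpecResidueField s)) (Spec.map θ) := by
    refine IsPullback.of_right ?_ (F.lift_snd _ _ _) F
    rw [hθ, F.lift_fst]
    exact sq
  exact P.of_isPullback sq' h

/-- The fibre of a pullback square over a point of the generic kind. -/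
theorem fiber_of_isPullback (P : MorphismProperty Scheme.{u}) [P.RespectsIso] {X S Z : Scheme.{u}} {f : X ⟶ S}
    {s : S} {p : Z ⟶ X} {q : Z ⟶ Spec (S.residueField s)} (sq : IsPullback p q f (S.fromSpecResidueField s))
    (h : P q) : P (f.fiberToSpecResidueField s) := by
  have : f.fiberToSpecResidueField s = sq.isoPullback.inv ≫ q := (sq.isoPullback_inv_snd).symm
  rw [this]
  exact (P.cancel_left_of_respectsIso _ _).2 h

/-- A square over an open containing the image. -/
theorem isPullback_restrict {X S T : Scheme.{u}} (f : X ⟶ S) (U : S.Opens) (h : T ⟶ U) :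
    ∃ p : pullback f (h ≫ U.ι) ⟶ f ⁻¹ᵁ U, p ≫ (f ⁻¹ᵁ U).ι = pullback.fst f (h ≫ U.ι) ∧
      IsPullback p (pullback.snd f (h ≫ U.ι)) (f ∣_ U) h := by
  have R := (isPullback_morphismRestrict f U).flip
  refine ⟨R.lift (pullback.fst f (h ≫ U.ι)) (pullback.snd f (h ≫ U.ι) ≫ h)
    (by rw [Category.assoc, ← pullback.condition]), R.lift_fst _ _ _, ?_⟩
  refine IsPullback.of_right ?_ (R.lift_snd _ _ _) R
  rw [R.lift_fst]
  exact IsPullback.of_hasPullback _ _

/-- A constructible set missing the generic point misses a nonempty open set. -/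
theorem exists_open_avoid {X : Type u} [TopologicalSpace X] {η : X} (hη : IsGenericPoint η (Set.univ : Set X))
    {C : Set X} (hC : IsConstructible C) (h : η ∉ C) :
    ∃ O : Set X, IsOpen O ∧ η ∈ O ∧ Disjoint O C := by
  refine ⟨(closure C)ᶜ, isClosed_closure.isOpen_compl, fun hc => h ?_,
    Set.disjoint_left.2 fun x hx hxC => hx (subset_closure hxC)⟩
  obtain ⟨U, hU, hne, hUC⟩ := Groth.SpectralTopology.exists_open_of_dense hC hη.isIrreducible
    (by rw [Set.inter_univ]; exact hη.symm.subset.trans (closure_minimal (Set.singleton_subset_iff.2 hc) isClosed_closure))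
  exact hUC ⟨hη.mem_open_set_iff hU |>.2 ⟨hne.some, trivial, hne.some_mem.1⟩, trivial⟩

/-- The closure of a closed subscheme of the generic fibre. -/
theorem exists_closure_genericFibre {X Y : Scheme.{u}} [IsIntegral Y] (f : X ⟶ Y) [QuasiSeparated f]
    {Z' : Scheme.{u}} (z' : Z' ⟶ f.fiber (genericPoint Y)) [IsClosedImmersion z'] :
    ∃ (Z : Scheme.{u}) (z : Z ⟶ X) (w : Z' ⟶ Z), IsClosedImmersion z ∧
      IsPullback w z' z (f.fiberι (genericPoint Y)) := by
  set ι := f.fiberι (genericPoint Y) with hι
  have : QuasiCompact ι := inferInstanceAs (QuasiCompact (pullback.fst _ _))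
  have : Flat ι := inferInstanceAs (Flat (pullback.fst _ _))
  set g := z' ≫ ι with hg
  have := Groth.Flatmor4.isSchemeTheoreticallyDominant_toImage g
  refine ⟨g.image, g.imageι, g.toImage, inferInstance, ?_⟩
  have : Mono (Y.fromSpecResidueField (genericPoint Y)) := inferInstance
  have : Mono ι := inferInstanceAs (Mono (pullback.fst _ _))
  let u : Z' ⟶ pullback g.imageι ι := pullback.lift g.toImage z' (g.toImage_imageι)
  have hu1 : u ≫ pullback.fst _ _ = g.toImage := pullback.lift_fst _ _ _
  have hu2 : u ≫ pullback.snd _ _ = z' := pullback.lift_snd _ _ _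
  have : IsClosedImmersion (u ≫ pullback.snd g.imageι ι) := by rw [hu2]; infer_instance
  have : IsClosedImmersion u := .of_comp u (pullback.snd g.imageι ι)
  have hsq : IsPullback u (𝟙 Z') (pullback.fst g.imageι ι) g.toImage := by
    refine IsPullback.of_isLimit' ⟨by rw [hu1, Category.id_comp]⟩
      (PullbackCone.IsLimit.mk _ (fun c => c.snd) (fun c => ?_) (fun c => Category.comp_id _)
        fun c l _ hl => by simpa using hl)
    rw [← cancel_mono (pullback.fst g.imageι ι), Category.assoc, hu1]
    exact c.condition.symm
  have : IsSchemeTheoreticallyDominant u := .of_isPullback hsq.flip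
  have : IsIso u := IsClosedImmersion.isIso_of_ker_eq u (𝟙 _) u (Category.comp_id _)
    (by rw [u.ker_eq_bot, Scheme.Hom.ker_eq_bot (𝟙 _)])
  exact IsPullback.of_iso_pullback ⟨g.toImage_imageι⟩ (asIso u) hu1 hu2

/-- A geometrically connected fibre has one geometric connected component. -/
theorem nGeomConnComp_eq_one {X S Z : Scheme.{u}} {f : X ⟶ S} {s : S} {p : Z ⟶ X}
    {q : Z ⟶ Spec (S.residueField s)} (sq : IsPullback p q f (S.fromSpecResidueField s))
    [GeometricallyConnected q] : MoreMor.nGeomConnComp f s = 1 := by
  have hq : GeometricallyConnected (f.fiberToSpecResidueField s) :=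
    fiber_of_isPullback @GeometricallyConnected sq ‹_›
  haveI : ConnectedSpace ↥(MoreMor.geomFiber f s) :=
    hq.geometrically_connectedSpace _ _ _ (IsPullback.of_hasPullback _ _)
  haveI : Unique (_root_.ConnectedComponents ↥(MoreMor.geomFiber f s)) :=
    { default := _root_.ConnectedComponents.mk (Classical.arbitrary ↥(MoreMor.geomFiber f s))
      uniq := fun c => by
        obtain ⟨x, rfl⟩ := _root_.ConnectedComponents.surjective_coe c
        refine _root_.ConnectedComponents.coe_eq_coe'.2 ?_
        rw [PreconnectedSpace.connectedComponent_eq_univ]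
        exact Set.mem_univ _ }
  exact ENat.card_eq_one_iff_unique.2 ⟨inferInstance⟩

/-- One geometric connected component gives a connected fibre. -/
theorem connectedSpace_of_nGeomConnComp {X S : Scheme.{u}} (f : X ⟶ S) (s : S)
    (h : MoreMor.nGeomConnComp f s = 1) : ConnectedSpace ↥(f.fiber s) := by
  obtain ⟨hu⟩ := ENat.card_eq_one_iff_unique.1 h
  haveI : Nonempty ↥(MoreMor.geomFiber f s) := ⟨(_root_.ConnectedComponents.surjective_coe hu.default).choose⟩
  haveI : PreconnectedSpace ↥(MoreMor.geomFiber f s) := preconnectedSpace_iff_connectedComponent.2 fun x => by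
    refine Set.eq_univ_of_forall fun y => ?_
    exact _root_.ConnectedComponents.coe_eq_coe'.1 ((hu.uniq _).trans (hu.uniq _).symm)
  haveI : ConnectedSpace ↥(MoreMor.geomFiber f s) := { toNonempty := inferInstance }
  let b := Spec.map (CommRingCat.ofHom (algebraMap (S.residueField s) (SeparableClosure (S.residueField s))))
  haveI : Surjective b := ⟨fun x => ⟨IsLocalRing.closedPoint _, Subsingleton.elim (α := PrimeSpectrum _) _ _⟩⟩
  haveI : ConnectedSpace ↥(pullback (f.fiberToSpecResidueField s) b) := ‹ConnectedSpace ↥(MoreMor.geomFiber f s)›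
  exact (pullback.fst (f.fiberToSpecResidueField s) b).surjective.connectedSpace
    (pullback.fst (f.fiberToSpecResidueField s) b).continuous

end Groth.Sga3.CommSpread
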